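import Groth.Agent.H14Quot.CatQuot
import Groth.Agent.H14Fib.Fp
import Groth.Agent.H14Stk.Psh
import Groth.Agent.H12AlgSp.LocP
import Groth.Agent.H12AlgSp.HilbOpen
import Groth.Agent.H13AlgSp.Cover

/-!
# Categorical moduli spaces are detected on etale affine charts
-/

set_option autoImplicit false
set_option backward.isDefEq.respectTransparency false
set_option backward.isDefEq.respectTransparency.types false

universe u

open CategoryTheory CategoryTheory.Limits AlgebraicGeometry Opposite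
open AlgSp (yon J Sp RepWith IsAlgSpace)

noncomputable section

namespace Groth.Agent.H14LocalCat

variable {S : Scheme.{u}} {M N Q : Sp S} {𝒲 𝒱 : AlgSt.Cat S}

/-- The morphism to a sheaf of an object, through a functor to its category. -/
def secMor (φ : 𝒲 ⥤ᵇ AlgSt.ofSp Q) (ω : 𝒲.obj) : (yon S).obj (𝒲.p.obj ω) ⟶ Q :=
  (J S).uliftYonedaEquiv.symm (H14Stk.secAt φ ω)

lemma secMor_natural (φ : 𝒲 ⥤ᵇ AlgSt.ofSp Q) {ω ω' : 𝒲.obj} (m : ω ⟶ ω') :
    (yon S).map (𝒲.p.map m) ≫ secMor φ ω' = secMor φ ω := by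
  apply (J S).uliftYonedaEquiv.injective
  rw [← H14Quot.equiv_map, secMor, secMor, Equiv.apply_symm_apply, Equiv.apply_symm_apply]
  exact H14Stk.secAt_natural φ m

lemma secMor_comp (b : 𝒱 ⥤ᵇ 𝒲) (φ : 𝒲 ⥤ᵇ AlgSt.ofSp Q) (v : 𝒱.obj) :
    secMor (BasedFunctor.comp b φ) v =
      (yon S).map (eqToHom (b.w_obj v).symm) ≫ secMor φ (b.obj v) := by
  apply (J S).uliftYonedaEquiv.injective
  rw [← H14Quot.equiv_map, secMor, secMor, Equiv.apply_symm_apply, Equiv.apply_symm_apply,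
    H14Stk.secAt, H14Stk.secAt, H14Stk.pmap_comp, eqToHom_trans]
  rfl

lemma secMor_ofSpMap (a : 𝒱 ⥤ᵇ AlgSt.ofSp M) (k : M ⟶ N) (v : 𝒱.obj) :
    secMor (BasedFunctor.comp a (AlgSt.ofSpMap k)) v = secMor a v ≫ k := by
  apply (J S).uliftYonedaEquiv.injective
  rw [GrothendieckTopology.uliftYonedaEquiv_comp, secMor, secMor, Equiv.apply_symm_apply,
    Equiv.apply_symm_apply, H14Stk.secAt, H14Stk.secAt, NatTrans.naturality_apply]
  rfl

/-- Functors to the category of a sheaf with the same sections are isomorphic. -/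
lemma nonempty_iso {φ ψ : 𝒲 ⥤ᵇ AlgSt.ofSp Q} (h : ∀ ω, secMor φ ω = secMor ψ ω) :
    Nonempty (φ ≅ ψ) :=
  ⟨H14Stk.isoOfSec fun ω => (J S).uliftYonedaEquiv.symm.injective (h ω)⟩

lemma secMor_eq_of_iso {φ ψ : 𝒲 ⥤ᵇ AlgSt.ofSp Q} (i : φ ≅ ψ) (ω : 𝒲.obj) :
    secMor φ ω = secMor ψ ω := by
  rw [secMor, secMor, H14Stk.secAt_eq_of_hom i.hom ω]

/-- `k` is the value of `φ` along `g'`. -/
def Good (π : 𝒲 ⥤ᵇ AlgSt.ofSp M) (φ : 𝒲 ⥤ᵇ AlgSt.ofSp N) {Y' : Over S}
    (g' : (yon S).obj Y' ⟶ M) (k : (yon S).obj Y' ⟶ N) : Prop :=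
  ∀ (ω : 𝒲.obj) (W : Over S) (v : W ⟶ 𝒲.p.obj ω) (l : W ⟶ Y'),
    (yon S).map l ≫ g' = (yon S).map v ≫ secMor π ω →
      (yon S).map v ≫ secMor φ ω = (yon S).map l ≫ k

/-- A categorical moduli space covering `π` over a chart gives the values along that chart. -/
lemma existsUnique_good (π : 𝒲 ⥤ᵇ AlgSt.ofSp M) (φ : 𝒲 ⥤ᵇ AlgSt.ofSp N) (hN : IsAlgSpace N)
    {Y' : Over S} (g' : (yon S).obj Y' ⟶ M) (a : 𝒱 ⥤ᵇ AlgSt.ofSch Y') (b : 𝒱 ⥤ᵇ 𝒲)
    (ha : AlgSt.IsCatModuli a)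
    (h1 : ∀ v, secMor (BasedFunctor.comp b π) v = secMor a v ≫ g')
    (h2 : ∀ (ω : 𝒲.obj) (W : Over S) (t : W ⟶ 𝒲.p.obj ω) (l : W ⟶ Y'),
      (yon S).map l ≫ g' = (yon S).map t ≫ secMor π ω →
        ∃ (v : 𝒱.obj) (hv : 𝒱.p.obj v = W) (m : b.obj v ⟶ ω),
          𝒲.p.map m = eqToHom ((b.w_obj v).trans hv) ≫ t ∧
          secMor a v = (yon S).map (eqToHom hv ≫ l)) :
    ∃! k, Good π φ g' k := by
  obtain ⟨k, ⟨i⟩, hu⟩ := ha.2 N hN (BasedFunctor.comp b φ)
  refine ⟨k, fun ω W t l h => ?_, fun k' hk' => hu k' ?_⟩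
  · obtain ⟨v, hv, m, hm, hl⟩ := h2 ω W t l h
    subst hv
    have e := secMor_eq_of_iso i v
    rw [secMor_ofSpMap, hl, secMor_comp, ← secMor_natural φ m, hm, ← Category.assoc,
      ← Functor.map_comp] at e
    simpa using e.symm
  · refine nonempty_iso fun v => ?_
    obtain ⟨l, hl⟩ := (yon S).map_surjective (secMor a v)
    rw [secMor_ofSpMap, secMor_comp, ← hl]
    exact (hk' (b.obj v) _ (eqToHom (b.w_obj v).symm) l (by rw [hl, ← h1, secMor_comp])).symm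

/-- Categorical moduli spaces are detected on affine charts. -/
theorem isCatModuli_of_local (hM : IsAlgSpace M) (π : 𝒲 ⥤ᵇ AlgSt.ofSp M)
    (hloc : ∀ (Y' : Over S), IsAffine Y'.left → ∀ g' : (yon S).obj Y' ⟶ M, RepWith @Etale g' →
      ∀ (N : Sp S), IsAlgSpace N → ∀ φ : 𝒲 ⥤ᵇ AlgSt.ofSp N, ∃! k, Good π φ g' k) :
    AlgSt.IsCatModuli π := by
  refine ⟨hM, fun N hN φ => ?_⟩
  choose k hk huniq using fun (Y' : Over S) (h : IsAffine Y'.left) (g' : (yon S).obj Y' ⟶ M)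
    (hg : RepWith @Etale g') => hloc Y' h g' hg N hN φ
  have compat : ∀ (Y₁ : Over S) (h₁ : IsAffine Y₁.left) (g₁ : (yon S).obj Y₁ ⟶ M)
      (hg₁ : RepWith @Etale g₁) (Y₂ : Over S) (h₂ : IsAffine Y₂.left)
      (g₂ : (yon S).obj Y₂ ⟶ M) (hg₂ : RepWith @Etale g₂) (W : Over S) (l₁ : W ⟶ Y₁) (l₂ : W ⟶ Y₂),
      (yon S).map l₁ ≫ g₁ = (yon S).map l₂ ≫ g₂ →
        (yon S).map l₁ ≫ k Y₁ h₁ g₁ hg₁ = (yon S).map l₂ ≫ k Y₂ h₂ g₂ hg₂ := by
    intro Y₁ h₁ g₁ hg₁ Y₂ h₂ g₂ hg₂ W l₁ l₂ hl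
    obtain ⟨R, r₁, r₂, sq⟩ := H12AlgSp.Hilb.exists_square hg₂.1 g₁
    have : Etale r₁.left := hg₂.property g₁ _ r₁ sq
    have key : (yon S).map r₁ ≫ k Y₁ h₁ g₁ hg₁ = (yon S).map r₂ ≫ k Y₂ h₂ g₂ hg₂ := by
      let V : R.left.affineOpens → Over S := fun U => Over.mk (U.1.ι ≫ R.hom)
      let c : ∀ U, V U ⟶ R := fun U => Over.homMk U.1.ι rfl
      have hJ : Sieve.ofArrows V c ∈ J S R := H13AlgSp.ofArrows_mem_J c
        (fun U => inferInstanceAs (Flat U.1.ι))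
        (fun U => inferInstanceAs (LocallyOfFinitePresentation U.1.ι))
        (fun x => by
          obtain ⟨U, hU, hx, -⟩ := R.left.isBasis_affineOpens.exists_subset_of_mem_open
            (Set.mem_univ x) isOpen_univ
          obtain ⟨A, hA, rfl⟩ := hU
          exact ⟨⟨A, hA⟩, (Scheme.Opens.range_ι A).ge hx⟩)
      refine H14Quot.yon_ext hJ ?_
      rintro W' w ⟨V', a, _, ⟨U⟩, rfl⟩
      rw [Functor.map_comp, Category.assoc, Category.assoc]
      congr 1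
      have hV : IsAffine (V U).left := U.2
      let g'' : (yon S).obj (V U) ⟶ M := (yon S).map (c U ≫ r₁) ≫ g₁
      have hg'' : RepWith @Etale g'' := MorphismProperty.comp_mem _ _ _
        ((AlgSp.repWith_yon_map_iff _ _).2 (inferInstanceAs (Etale (U.1.ι ≫ r₁.left)))) hg₁
      have e1 : Good π φ g'' ((yon S).map (c U ≫ r₁) ≫ k Y₁ h₁ g₁ hg₁) := fun ω W'' t l h => by
        rw [← Category.assoc, ← Functor.map_comp]
        exact hk Y₁ h₁ g₁ hg₁ ω W'' t _ (by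
          rw [← h, Functor.map_comp, Category.assoc])
      have e2 : Good π φ g'' ((yon S).map (c U ≫ r₂) ≫ k Y₂ h₂ g₂ hg₂) := fun ω W'' t l h => by
        rw [← Category.assoc, ← Functor.map_comp]
        exact hk Y₂ h₂ g₂ hg₂ ω W'' t _ (by
          rw [← h, Functor.map_comp, Functor.map_comp, Category.assoc, Category.assoc, sq.w]
          simp only [g'', Functor.map_comp, Category.assoc])
      have := (huniq (V U) hV g'' hg'' _ e1).trans (huniq (V U) hV g'' hg'' _ e2).symm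
      rw [Functor.map_comp, Functor.map_comp, Category.assoc, Category.assoc] at this
      exact this
    obtain ⟨m, hm2, hm1⟩ := sq.exists_lift ((yon S).map l₂) ((yon S).map l₁) hl.symm
    obtain ⟨m, rfl⟩ := (yon S).map_surjective m
    rw [← hm2, ← hm1, Category.assoc, Category.assoc, key]
  -- the sieve of morphisms factoring through a chart
  let R : ∀ T : Over S, ((yon S).obj T ⟶ M) → Sieve T := fun T x =>
    { arrows := fun W v => ∃ (Y' : Over S) (_ : IsAffine Y'.left) (g' : (yon S).obj Y' ⟶ M)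
        (_ : RepWith @Etale g') (l : W ⟶ Y'), (yon S).map v ≫ x = (yon S).map l ≫ g'
      downward_closed := by
        rintro W W' v ⟨Y', h, g', hg, l, e⟩ c
        exact ⟨Y', h, g', hg, c ≫ l, by
          rw [Functor.map_comp, Category.assoc, e, Functor.map_comp, Category.assoc]⟩ }
  have hR : ∀ (T : Over S) (x : (yon S).obj T ⟶ M), R T x ∈ J S T := by
    intro T x
    obtain ⟨U, d, hd, hds⟩ := hM.atlas
    obtain ⟨T', a, b, sq⟩ := H12AlgSp.Hilb.exists_square hd.1 x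
    have : Etale a.left := hd.property x _ a sq
    have : Surjective a.left := hds.property x _ a sq
    let V : U.left.affineOpens → Over S := fun A => Over.mk ((b.left ⁻¹ᵁ A.1).ι ≫ T'.hom)
    let c : ∀ A, V A ⟶ T := fun A => Over.homMk ((b.left ⁻¹ᵁ A.1).ι ≫ a.left) (by
      change (_ ≫ a.left) ≫ T.hom = _ ≫ T'.hom
      rw [Category.assoc, Over.w])
    have hJ : Sieve.ofArrows V c ∈ J S T := H13AlgSp.ofArrows_mem_J c
      (fun A => inferInstanceAs (Flat ((b.left ⁻¹ᵁ A.1).ι ≫ a.left)))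
      (fun A => inferInstanceAs (LocallyOfFinitePresentation ((b.left ⁻¹ᵁ A.1).ι ≫ a.left)))
      (fun t => by
        obtain ⟨t', rfl⟩ := a.left.surjective t
        obtain ⟨_, ⟨A, hA, rfl⟩, hx, -⟩ := U.left.isBasis_affineOpens.exists_subset_of_mem_open
          (Set.mem_univ (b.left t')) isOpen_univ
        obtain ⟨o, ho⟩ := (Scheme.Opens.range_ι (b.left ⁻¹ᵁ A)).ge (hx : t' ∈ (b.left ⁻¹ᵁ A : Set T'.left))
        exact ⟨⟨A, hA⟩, o, by
          change ((b.left ⁻¹ᵁ A).ι ≫ a.left) o = a.left t'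
          rw [Scheme.Hom.comp_apply, ho]⟩)
    refine (J S).superset_covering ?_ hJ
    rintro W v ⟨V', w, _, ⟨A⟩, rfl⟩
    let UA : Over S := Over.mk (A.1.ι ≫ U.hom)
    let ιA : UA ⟶ U := Over.homMk A.1.ι rfl
    let lA : V A ⟶ UA := Over.homMk (b.left.resLE A.1 (b.left ⁻¹ᵁ A.1) le_rfl) (by
      change _ ≫ A.1.ι ≫ U.hom = _ ≫ T'.hom
      rw [← Category.assoc, Scheme.Hom.resLE_comp_ι, Category.assoc, Over.w])
    refine ⟨UA, A.2, (yon S).map ιA ≫ d, MorphismProperty.comp_mem _ _ _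
      ((AlgSp.repWith_yon_map_iff _ _).2 (inferInstanceAs (Etale A.1.ι))) hd, w ≫ lA, ?_⟩
    have hl : lA ≫ ιA = (Over.homMk (b.left ⁻¹ᵁ A.1).ι rfl : V A ⟶ T') ≫ b :=
      Over.OverMorphism.ext (Scheme.Hom.resLE_comp_ι _ _)
    have hc : c A = (Over.homMk (b.left ⁻¹ᵁ A.1).ι rfl : V A ⟶ T') ≫ a :=
      Over.OverMorphism.ext rfl
    rw [← Category.assoc ((yon S).map (w ≫ lA)), ← Functor.map_comp, Category.assoc, hl, hc]
    simp only [Functor.map_comp, Category.assoc, sq.w]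
  have hglue : ∀ (T : Over S) (x : (yon S).obj T ⟶ M), ∃! s : (yon S).obj T ⟶ N,
      ∀ (W : Over S) (v : W ⟶ T) (Y' : Over S) (h : IsAffine Y'.left)
        (g' : (yon S).obj Y' ⟶ M) (hg : RepWith @Etale g') (l : W ⟶ Y'),
        (yon S).map v ≫ x = (yon S).map l ≫ g' →
          (yon S).map v ≫ s = (yon S).map l ≫ k Y' h g' hg := by
    intro T x
    choose Y h g hg l e using fun (W : Over S) (v : W ⟶ T) (hv : R T x v) => hv
    obtain ⟨s, hs⟩ := H14Quot.yon_glue (hR T x)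
      (fun W v hv => (yon S).map (l W v hv) ≫ k (Y W v hv) (h W v hv) (g W v hv) (hg W v hv))
      (fun W W' c v hv => by
        rw [← Category.assoc, ← Functor.map_comp]
        refine compat _ _ _ _ _ _ _ _ _ _ _ ?_
        rw [← e, Functor.map_comp, Category.assoc, ← e, Functor.map_comp, Category.assoc])
    refine ⟨s, fun W v Y' h' g' hg' l' e' => ?_, fun s' hs' => ?_⟩
    · have hv : R T x v := ⟨Y', h', g', hg', l', e'⟩
      rw [hs v hv]
      exact compat _ _ _ _ _ _ _ _ _ _ _ ((e W v hv).symm.trans e')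
    · refine H14Quot.yon_ext (hR T x) fun W v hv => ?_
      rw [hs v hv, hs' W v _ (h W v hv) _ (hg W v hv) _ (e W v hv)]
  choose F hF hFu using hglue
  let K : M ⟶ N := H14Quot.homOfPoints F (fun T T' c x => (hFu T' _ _ (fun W v Y' h g' hg l e => by
    rw [← Category.assoc, ← Functor.map_comp]
    exact hF T x W (v ≫ c) Y' h g' hg l (by
      rw [Functor.map_comp, Category.assoc]; exact e))).symm)
  have hK : ∀ {T : Over S} (x : (yon S).obj T ⟶ M), x ≫ K = F T x := fun x =>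
    H14Quot.comp_homOfPoints F _ x
  refine ⟨K, nonempty_iso fun ω => ?_, fun K' ⟨i⟩ => ?_⟩
  · rw [secMor_ofSpMap, hK]
    exact (hFu _ _ _ fun W v Y' h g' hg l e => hk Y' h g' hg ω W v l e.symm).symm
  · have hgood : ∀ (Y' : Over S) (h : IsAffine Y'.left) (g' : (yon S).obj Y' ⟶ M)
        (hg : RepWith @Etale g'), g' ≫ K' = k Y' h g' hg := fun Y' h g' hg =>
      huniq Y' h g' hg _ fun ω W v l e => by
        rw [← secMor_eq_of_iso i ω, secMor_ofSpMap, ← Category.assoc, ← e, Category.assoc]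
    ext : 1
    ext T s
    obtain ⟨x, rfl⟩ : ∃ x : (yon S).obj T.unop ⟶ M, (J S).uliftYonedaEquiv x = s :=
      ⟨_, Equiv.apply_symm_apply _ s⟩
    have e : x ≫ K' = x ≫ K := by
      rw [hK]
      refine hFu T.unop x _ fun W v Y' h g' hg l e => ?_
      rw [← hgood Y' h g' hg, ← Category.assoc, e, Category.assoc]
    have := congrArg (J S).uliftYonedaEquiv e
    rw [GrothendieckTopology.uliftYonedaEquiv_comp, GrothendieckTopology.uliftYonedaEquiv_comp] at this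
    exact this

end Groth.Agent.H14LocalCat
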