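import Groth.Agent.H14FinQuot.Factor
import Groth.Agent.H14Quot.CatQuot
import Groth.Agent.H27Quot.Points
import Groth.Prelude.Def_ConstAct2
import Mathlib.RingTheory.Invariant.Basic
import Mathlib.RingTheory.Adjoin.Tower

/-!
# The quotient of an affine scheme by a finite group is a coarse moduli space of the quotient stack
-/

set_option autoImplicit false
set_option backward.isDefEq.respectTransparency false
set_option backward.isDefEq.respectTransparency.types false

universe w v u

open CategoryTheory CategoryTheory.Limits MonoidalCategory CartesianMonoidalCategory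
open AlgebraicGeometry Opposite
open AlgSp (yon J)

noncomputable section

namespace Groth.Agent.H14FinQuot

/-- The section of an object of a fibre only depends on its isomorphism class. -/
lemma fibSec_eq_of_hom {S : Scheme.{u}} {M : AlgSp.Sp S} {𝒴 : BasedCategory.{v, w} (Over S)}
    (π : 𝒴 ⥤ᵇ AlgSt.ofSp M) {T : Over S} {a b : 𝒴.p.Fiber T} (φ : a ⟶ b) :
    AlgSt.fibSec π a = AlgSt.fibSec π b := by
  have h : 𝒴.p.map φ.1 = eqToHom a.2 ≫ eqToHom b.2.symm := by
    have := @IsHomLift.fac' _ _ _ _ 𝒴.p _ _ _ _ (𝟙 T) φ.1 φ.2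
    simpa using this
  have hm := (π.map φ.1).map_sec
  have hh : (π.map φ.1).hom =
      eqToHom ((π.w_obj a.1).trans a.2) ≫ eqToHom ((π.w_obj b.1).trans b.2).symm := by
    refine (Functor.congr_hom π.w φ.1).trans ?_
    rw [h]
    simp
  rw [hh] at hm
  rw [AlgSt.fibSec, AlgSt.fibSec]
  have e : ∀ {U V W : Over S} (f : U ⟶ V) (g : V ⟶ W) (s : M.obj.obj (op W)),
      M.obj.map f.op (M.obj.map g.op s) = M.obj.map (f ≫ g).op s := fun f g s => by
    rw [op_comp, CategoryTheory.Functor.map_comp]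
    rfl
  exact (congrArg (fun s => M.obj.map (eqToHom ((π.w_obj a.1).trans a.2).symm).op s) hm.symm).trans
    ((e _ _ _).trans (by rw [← Category.assoc, eqToHom_trans, eqToHom_refl, Category.id_comp]; rfl))

/-- Torsors have rational points over algebraically closed fields. -/
lemma exists_section {S : Scheme.{u}} {K : Precoverage Scheme.{u}} {G : Over S} [GrpObj G]
    {X : Over S} {aX : AlgGrp.Action G X} (hK : K ≤ Scheme.fppfPrecoverage)
    (A : AlgSt.QuotObj K G aX) {Ω : Type u} [Field Ω] [IsAlgClosed Ω]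
    (c : Spec (CommRingCat.of Ω) ⟶ A.base.left) :
    ∃ s : Spec (CommRingCat.of Ω) ⟶ A.P.left, s ≫ A.π.left = c := by
  obtain ⟨R, hR, hs⟩ := A.loc
  obtain ⟨κ, Z, g, rfl⟩ := Presieve.exists_eq_ofArrows R
  have hR' := hK _ hR
  rw [Scheme.fppfPrecoverage, Scheme.ofArrows_mem_precoverage_iff] at hR'
  obtain ⟨hcov, hmor⟩ := hR'
  obtain ⟨i, z, hz⟩ := hcov (c (IsLocalRing.closedPoint Ω))
  obtain ⟨s, hsg⟩ := hs (g i) ⟨i⟩
  change s ≫ A.π.left = g i at hsg
  have : LocallyOfFinitePresentation (g i) := (hmor i).2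
  obtain ⟨p, -, -⟩ :=
    Scheme.Pullback.exists_preimage_pullback (f := g i) (g := c) z (IsLocalRing.closedPoint Ω) hz
  let f : pullback (g i) c ⟶ Spec (CommRingCat.of Ω) := pullback.snd (g i) c
  have : JacobsonSpace ↥(pullback (g i) c) := LocallyOfFiniteType.jacobsonSpace f
  obtain ⟨q, -, hq⟩ := nonempty_inter_closedPoints (X := ↥(pullback (g i) c)) (Z := Set.univ)
    ⟨p, trivial⟩ isClosed_univ.isLocallyClosed
  refine ⟨pointOfClosedPoint f q hq ≫ pullback.fst (g i) c ≫ s, ?_⟩
  rw [Category.assoc, Category.assoc, hsg, pullback.condition, ← Category.assoc]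
  exact (congrArg (· ≫ c) (pointOfClosedPoint_comp f q hq)).trans (Category.id_comp _)

open ConstAct

variable (R : Type u) [CommRing R] (A : Type u) [CommRing A] [Algebra R A]
variable (G : Type u) [Group G] [MulSemiringAction G A] [SMulCommClass G R A]

/-- Extension of field valued points of the invariants. -/
lemma exists_comp_val_eq [Finite G] (Ω : Type u) [Field Ω] [IsAlgClosed Ω]
    (φ : ↥(ConstAct.inv R A G) →+* Ω) :
    ∃ ψ : A →+* Ω, ψ.comp (ConstAct.inv R A G).val.toRingHom = φ := by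
  have : Algebra.IsInvariant ↥(ConstAct.inv R A G) A G := ⟨fun b hb => ⟨⟨b, hb⟩, rfl⟩⟩
  have : SMulCommClass G ↥(ConstAct.inv R A G) A := ⟨fun g b a => by
    change g • ((b : A) * a) = (b : A) * g • a
    rw [smul_mul', b.2 g]⟩
  have hint : Algebra.IsIntegral ↥(ConstAct.inv R A G) A := Algebra.IsInvariant.isIntegral _ A G
  exact H27Quot.exists_ringHom_lift _ hint.1 Subtype.val_injective φ

/-- Field valued points with the same restriction to the invariants are conjugate. -/
lemma exists_conj [Finite G] (Ω : Type u) [Field Ω] (ψ ψ' : A →+* Ω)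
    (h : ψ.comp (ConstAct.inv R A G).val.toRingHom = ψ'.comp (ConstAct.inv R A G).val.toRingHom) :
    ∃ g : G, ∀ b, ψ' b = ψ (g • b) := by
  obtain ⟨g, hg⟩ := H27Quot.exists_act_eq (ConstAct.inv R A G).val.toRingHom
    (fun g => MulSemiringAction.toRingHom G A g⁻¹)
    (fun s => by simp) (fun g h s => by simp [mul_smul])
    (fun s hs => ⟨⟨s, fun g => by simpa using hs g⁻¹⟩, rfl⟩) ψ ψ' h
  exact ⟨g⁻¹, hg⟩

variable {R A G} in
omit [SMulCommClass G R A] in
lemma specInj {f g : A →+* R} (h : Spec.map (CommRingCat.ofHom f) = Spec.map (CommRingCat.ofHom g)) :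
    f = g :=
  congrArg CommRingCat.Hom.hom (Spec.map_injective h)

/-- The quotient map is a finite invariant quotient. -/
theorem isInvQuot_quot [IsNoetherianRing R] [Algebra.FiniteType R A] [Finite G] :
    IsInvQuot (quot R A G).left (fun g => (act R A G g).left) := by
  have : Algebra.IsInvariant ↥(ConstAct.inv R A G) A G := ⟨fun b hb => ⟨⟨b, hb⟩, rfl⟩⟩
  have : SMulCommClass G ↥(ConstAct.inv R A G) A := ⟨fun g b a => by
    change g • ((b : A) * a) = (b : A) * g • a
    rw [smul_mul', b.2 g]⟩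
  have : Algebra.IsIntegral ↥(ConstAct.inv R A G) A := Algebra.IsInvariant.isIntegral _ A G
  have : Algebra.FiniteType ↥(ConstAct.inv R A G) A :=
    Algebra.FiniteType.of_restrictScalars_finiteType R _ A
  have hfin : Module.Finite ↥(ConstAct.inv R A G) A := Algebra.IsIntegral.finite
  let val : CommRingCat.of ↥(ConstAct.inv R A G) ⟶ CommRingCat.of A :=
    CommRingCat.ofHom (ConstAct.inv R A G).val.toRingHom
  have hΓ : ∀ {P Q : CommRingCat.{u}} (f : P ⟶ Q) (a : Γ(Spec P, ⊤)),
      (Scheme.ΓSpecIso Q).hom ((Spec.map f).appTop a) = f ((Scheme.ΓSpecIso P).hom a) := fun f a => by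
    rw [← CommRingCat.comp_apply, Scheme.ΓSpecIso_naturality, CommRingCat.comp_apply]
  refine ⟨(IsFinite.SpecMap_iff val).2 (RingHom.finite_algebraMap.2 hfin), fun g => ?_, ?_, ?_, ?_⟩
  · exact congrArg (fun t => t.left) (act_quot R A G g)
  · intro a b e
    have e' := congrArg (fun c => (Scheme.ΓSpecIso (CommRingCat.of A)).hom c) e
    change (Scheme.ΓSpecIso (CommRingCat.of A)).hom ((Spec.map val).appTop a) =
      (Scheme.ΓSpecIso (CommRingCat.of A)).hom ((Spec.map val).appTop b) at e'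
    rw [hΓ, hΓ] at e'
    exact ((Scheme.ΓSpecIso _).commRingCatIsoToRingEquiv.injective (Subtype.val_injective e'))
  · intro a ha
    let c : A := (Scheme.ΓSpecIso (CommRingCat.of A)).hom a
    have hc : ∀ g : G, g • c = c := fun g => by
      have e := congrArg (fun c => (Scheme.ΓSpecIso (CommRingCat.of A)).hom c) (ha g)
      change (Scheme.ΓSpecIso (CommRingCat.of A)).hom
        ((Spec.map (CommRingCat.ofHom (MulSemiringAction.toRingHom G A g))).appTop a) = c at e
      rw [hΓ] at e
      exact e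
    refine ⟨(Scheme.ΓSpecIso (CommRingCat.of ↥(ConstAct.inv R A G))).inv ⟨c, hc⟩, ?_⟩
    apply (Scheme.ΓSpecIso (CommRingCat.of A)).commRingCatIsoToRingEquiv.injective
    change (Scheme.ΓSpecIso (CommRingCat.of A)).hom ((Spec.map val).appTop _) = c
    rw [hΓ, Iso.inv_hom_id_apply]
    rfl
  · intro Ω _ _ x x' hx
    obtain ⟨φ, rfl⟩ := Spec.map_surjective x
    obtain ⟨φ', rfl⟩ := Spec.map_surjective x'
    change Spec.map φ ≫ Spec.map val = Spec.map φ' ≫ Spec.map val at hx
    rw [← Spec.map_comp, ← Spec.map_comp] at hx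
    obtain ⟨g, hg⟩ := exists_conj R A G Ω φ.hom φ'.hom
      (congrArg CommRingCat.Hom.hom (Spec.map_injective hx))
    refine ⟨g, ?_⟩
    change Spec.map φ ≫ Spec.map (CommRingCat.ofHom (MulSemiringAction.toRingHom G A g)) = _
    rw [← Spec.map_comp]
    exact congrArg Spec.map (CommRingCat.hom_ext (RingHom.ext fun b => (hg b).symm))

/-- Points of `Spec A^G` over algebraically closed fields lift. -/
lemma exists_point [Finite G] {Ω : Type u} [Field Ω] [IsAlgClosed Ω]
    {t : Spec (CommRingCat.of Ω) ⟶ Spec (CommRingCat.of R)} (y : Over.mk t ⟶ specInv R A G) :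
    ∃ x : Over.mk t ⟶ specA R A, x ≫ quot R A G = y := by
  obtain ⟨φ, hφ⟩ : ∃ φ : CommRingCat.of ↥(ConstAct.inv R A G) ⟶ CommRingCat.of Ω,
      Spec.map φ = y.left := Spec.map_surjective _
  obtain ⟨ψ, hψ⟩ := exists_comp_val_eq R A G Ω φ.hom
  have e : Spec.map (CommRingCat.ofHom ψ) ≫ (quot R A G).left = y.left := by
    change Spec.map _ ≫ Spec.map _ = _
    rw [← Spec.map_comp, ← hφ]
    exact congrArg Spec.map (CommRingCat.hom_ext hψ)
  exact ⟨Over.homMk (Spec.map (CommRingCat.ofHom ψ)) (by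
    rw [← Over.w (quot R A G), ← Category.assoc, e]
    exact Over.w y), Over.OverMorphism.ext e⟩

/-- Points with the same image are conjugate. -/
lemma exists_act [IsNoetherianRing R] [Algebra.FiniteType R A] [Finite G] {Ω : Type u} [Field Ω]
    [IsAlgClosed Ω] {t : Spec (CommRingCat.of Ω) ⟶ Spec (CommRingCat.of R)}
    (x x' : Over.mk t ⟶ specA R A) (h : x ≫ quot R A G = x' ≫ quot R A G) :
    ∃ g : G, x ≫ act R A G g = x' := by
  obtain ⟨g, hg⟩ := (isInvQuot_quot R A G).trans Ω x.left x'.left (congrArg (fun t => t.left) h)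
  exact ⟨g, Over.OverMorphism.ext hg⟩

/-- Points of the invariants as algebra maps extend, uniquely up to the group. -/
theorem bijective_points [Finite G] (Ω : Type u) [Field Ω] [IsAlgClosed Ω] [Algebra R Ω] :
    (∀ y : ↥(ConstAct.inv R A G) →ₐ[R] Ω, ∃ x : A →ₐ[R] Ω, x.comp (ConstAct.inv R A G).val = y) ∧
      ∀ x x' : A →ₐ[R] Ω, x.comp (ConstAct.inv R A G).val = x'.comp (ConstAct.inv R A G).val →
        ∃ g : G, x' = x.comp (MulSemiringAction.toAlgEquiv R A g : A →ₐ[R] A) := by
  refine ⟨fun y => ?_, fun x x' h => ?_⟩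
  · obtain ⟨ψ, hψ⟩ := exists_comp_val_eq R A G Ω y.toRingHom
    refine ⟨{ ψ with commutes' := fun r => ?_ }, AlgHom.ext fun b => RingHom.congr_fun hψ b⟩
    exact (RingHom.congr_fun hψ (algebraMap R _ r)).trans (y.commutes r)
  · obtain ⟨g, hg⟩ := exists_conj R A G Ω x.toRingHom x'.toRingHom
      (congrArg AlgHom.toRingHom h)
    exact ⟨g, AlgHom.ext hg⟩

variable [Fintype G] [DecidableEq G]

/-- The point of `G × Spec A` over the identity at a group element. -/
def γpt (g : G) : specA R A ⟶ GR R G ⊗ X R A :=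
  lift (CoactBr.pt (constPt R G (K := A) g⁻¹)) (𝟙 (X R A))

lemma γpt_act (g : G) : γpt R A G g ≫ (gaction R A G).act = act R A G g := by
  have h := gaction_constPt R A G (K := A) g⁻¹ (AlgHom.id R A)
  rw [CoactBr.pt_id, inv_inv, Category.id_comp] at h
  exact h

lemma γpt_snd (g : G) : γpt R A G g ≫ snd (GR R G) (X R A) = 𝟙 (X R A) :=
  lift_snd _ _

variable {R A G} in
/-- Maps invariant under the group scheme are invariant under the group. -/
lemma inv_of_gaction {N : AlgSp.Sp (Spec (CommRingCat.of R))}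
    (f : (yon _).obj (X R A) ⟶ N)
    (hf : (yon _).map (gaction R A G).act ≫ f = (yon _).map (snd (GR R G) (X R A)) ≫ f) (g : G) :
    (yon _).map (act R A G g) ≫ f = f := by
  have h := congrArg ((yon _).map (γpt R A G g) ≫ ·) hf
  rw [← Category.assoc, ← Category.assoc, ← Functor.map_comp, ← Functor.map_comp, γpt_act, γpt_snd] at h
  exact h.trans ((congrArg (· ≫ f) ((yon _).map_id (X R A))).trans (Category.id_comp f))

/-- The trivial torsor of a point, in the fibre. -/
abbrev trivFib {T : Over (Spec (CommRingCat.of R))} (x : T ⟶ X R A) :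
    (quotSt R A G Scheme.fppfPrecoverage).p.Fiber T :=
  Functor.Fiber.mk (a := H14Quot.triv Scheme.fppfPrecoverage (GR R G) (gaction R A G) x) rfl

/-- A vertical morphism of the quotient stack is an isomorphism of the fibre. -/
lemma fiberIso {T : Over (Spec (CommRingCat.of R))}
    {a b : (quotSt R A G Scheme.fppfPrecoverage).p.Fiber T} (m : a.1 ⟶ b.1)
    (hm : (quotSt R A G Scheme.fppfPrecoverage).p.IsHomLift (𝟙 T) m) : Nonempty (a ≅ b) := by
  have := H14Fib.isIso_of_fibGrpd H14Quot.quotSt_fibGrpd (𝟙 T) m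
  exact ⟨⟨⟨m, hm⟩, ⟨CategoryTheory.inv m, inferInstance⟩, Subtype.ext (IsIso.hom_inv_id m),
    Subtype.ext (IsIso.inv_hom_id m)⟩⟩

/-- Objects over algebraically closed fields are trivial. -/
lemma exists_triv {Ω : Type u} [Field Ω] [IsAlgClosed Ω]
    {t : Spec (CommRingCat.of Ω) ⟶ Spec (CommRingCat.of R)}
    (a : (quotSt R A G Scheme.fppfPrecoverage).p.Fiber (Over.mk t)) :
    ∃ x : Over.mk t ⟶ X R A, Nonempty (trivFib R A G x ≅ a) := by
  let e : Over.mk t ⟶ a.1.base := eqToHom a.2.symm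
  obtain ⟨s, hs⟩ := exists_section le_rfl a.1 e.left
  let σ : Over.mk t ⟶ a.1.P := Over.homMk s (by
    rw [← Over.w a.1.π, ← Category.assoc, hs]
    exact Over.w e)
  have hσ : σ ≫ a.1.π = e := Over.OverMorphism.ext hs
  let m := H14Quot.homOfSec (x := σ ≫ a.1.φ) σ rfl
  have hm : (quotSt R A G Scheme.fppfPrecoverage).p.IsHomLift (𝟙 (Over.mk t)) m :=
    IsHomLift.of_fac' _ _ _ rfl a.2 (by
      change σ ≫ a.1.π = _
      rw [hσ]; simp [e])
  exact ⟨σ ≫ a.1.φ, fiberIso R A G (a := trivFib R A G (σ ≫ a.1.φ)) (b := a) m hm⟩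

variable (π : quotSt R A G Scheme.fppfPrecoverage ⥤ᵇ AlgSt.ofSch (specInv R A G))
  (hπ : BasedFunctor.comp
      (AlgSt.quotMap Scheme.fppfPrecoverage (GR R G) (gaction R A G)) π =
    AlgSt.ofSpMap ((yon (Spec (CommRingCat.of R))).map (quot R A G)))

include hπ

/-- The quotient is a categorical moduli space. -/
theorem isCatModuli_quotSt [IsNoetherianRing R] [Algebra.FiniteType R A] :
    AlgSt.IsCatModuli π := by
  refine ⟨AlgSp.IsAlgSpace.yon_obj _, fun N hN φ => ?_⟩
  let f := H14Quot.mapOfQuot φ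
  have hinv : ∀ g, (yon _).map (act R A G g) ≫ f = f := fun g =>
    inv_of_gaction f (H14Quot.invariant_of_functor (H14Quot.comp_quotMap_eq φ)) g
  have : IsAffine (specA R A).left := inferInstanceAs (IsAffine (Spec (CommRingCat.of A)))
  have : IsAffine (specInv R A G).left :=
    inferInstanceAs (IsAffine (Spec (CommRingCat.of ↥(ConstAct.inv R A G))))
  obtain ⟨k, hk, hu⟩ := existsUnique_factor (quot R A G) (act R A G) (isInvQuot_quot R A G) hN f hinv
  have hcomp : ∀ h : (yon _).obj (specInv R A G) ⟶ N,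
      BasedFunctor.comp (AlgSt.quotMap Scheme.fppfPrecoverage (GR R G) (gaction R A G))
          (BasedFunctor.comp π (AlgSt.ofSpMap h)) =
        AlgSt.ofSpMap ((yon _).map (quot R A G) ≫ h) := fun h => by
    rw [← BasedFunctor.comp_assoc, hπ, H14Quot.ofSpMap_comp]
  refine ⟨k, ⟨eqToIso (H14Quot.quot_functor_ext le_rfl ?_)⟩, fun h ⟨ih⟩ => hu _ ?_⟩
  · rw [hcomp, hk, ← H14Quot.comp_quotMap_eq φ]
  · have e := congrArg (BasedFunctor.comp (AlgSt.quotMap Scheme.fppfPrecoverage (GR R G)
      (gaction R A G))) (H14Quot.eq_of_iso_ofSp ih)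
    rw [hcomp, H14Quot.comp_quotMap_eq φ] at e
    exact H14Quot.ofSpMap_injective e

/-- The value of the quotient on trivial torsors. -/
lemma fibSec_triv {T : Over (Spec (CommRingCat.of R))} (x : T ⟶ X R A) :
    AlgSt.fibSec π (trivFib R A G x) =
      ⟨x ≫ quot R A G⟩ := by
  let a := (AlgSt.ofOverCat (X R A)).obj (Over.mk x)
  have h := congrArg (fun F => AlgSt.fibSec F (T := T) ⟨a, rfl⟩) hπ
  refine h.trans ?_
  change ((yon _).obj (specInv R A G)).obj.map (𝟙 (op T)) _ = _
  rw [CategoryTheory.Functor.map_id]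
  rfl

/-- The quotient is bijective on geometric points. -/
theorem geomPtBij_quotSt [IsNoetherianRing R] [Algebra.FiniteType R A] :
    AlgSt.GeomPtBij π := by
  intro Ω _ _ t
  refine ⟨fun m => ?_, fun a b hab => ?_⟩
  · obtain ⟨x, hx⟩ := exists_point R A G m.down
    exact ⟨trivFib R A G x,
      (fibSec_triv R A G π hπ x).trans (congrArg ULift.up hx)⟩
  · obtain ⟨x, ⟨i⟩⟩ := exists_triv R A G a
    obtain ⟨y, ⟨j⟩⟩ := exists_triv R A G b
    rw [← fibSec_eq_of_hom π i.hom, ← fibSec_eq_of_hom π j.hom, fibSec_triv R A G π hπ,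
      fibSec_triv R A G π hπ] at hab
    obtain ⟨g, rfl⟩ := exists_act R A G x y (congrArg ULift.down hab)
    let c : Over.mk t ⟶ GR R G := x ≫ γpt R A G g ≫ fst (GR R G) (X R A)
    have hσ : (lift c (𝟙 (Over.mk t))) ≫
        (H14Quot.triv Scheme.fppfPrecoverage (GR R G) (gaction R A G) x).φ = x ≫ act R A G g := by
      change lift c (𝟙 _) ≫ (GR R G ◁ x) ≫ (gaction R A G).act = _
      rw [lift_whiskerLeft_assoc, Category.id_comp, ← γpt_act, ← Category.assoc]
      congr 1
      apply CartesianMonoidalCategory.hom_ext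
      · simp [c]
      · simp [γpt_snd]
    let m := H14Quot.homOfSec (A := H14Quot.triv Scheme.fppfPrecoverage (GR R G) (gaction R A G) x)
      (x := x ≫ act R A G g) (lift c (𝟙 (Over.mk t))) hσ
    have hm : (quotSt R A G Scheme.fppfPrecoverage).p.IsHomLift (𝟙 (Over.mk t)) m :=
      IsHomLift.of_fac' _ _ _ rfl rfl (by
        change lift c (𝟙 _) ≫ snd _ _ = _
        simp
        rfl)
    obtain ⟨k⟩ := fiberIso R A G
      (a := trivFib R A G (x ≫ act R A G g)) (b := trivFib R A G x) m hm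
    exact ⟨i.symm ≪≫ k.symm ≪≫ j⟩

/-- The quotient is a coarse moduli space of the quotient stack. -/
theorem isCoarseModuli_quotSt [IsNoetherianRing R] [Algebra.FiniteType R A] :
    AlgSt.IsCoarseModuli π :=
  ⟨isCatModuli_quotSt R A G π hπ, geomPtBij_quotSt R A G π hπ⟩

end Groth.Agent.H14FinQuot
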