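import Groth.Agent.H14FinQuot.Section
import Groth.Agent.H18Quot.InvariantsBC
import Groth.Agent.H12AlgSp.Sep
import Groth.Agent.H12AlgSp.FppfBootstrap
import Groth.Agent.H14Quot.Yon

/-!
# Invariant maps to algebraic spaces factor through the ring of invariants
-/

set_option autoImplicit false
set_option backward.isDefEq.respectTransparency false

universe u

open CategoryTheory CategoryTheory.Limits AlgebraicGeometry TopologicalSpace
open AlgSp (yon J Sp Representable RepWith IsAlgSpace)

noncomputable section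

namespace Groth.Agent.H14FinQuot

/-- A finite map of affine schemes with the invariance properties of the map to the spectrum of the
invariants of a finite group. -/
structure IsInvQuot {X Y : Scheme.{u}} {G : Type u} (p : X ⟶ Y) (σ : G → (X ⟶ X)) : Prop where
  finite : IsFinite p
  inv : ∀ g, σ g ≫ p = p
  inj : Function.Injective p.appTop
  range : ∀ a, (∀ g, (σ g).appTop a = a) → a ∈ Set.range p.appTop
  trans : ∀ (Ω : Type u) [Field Ω] [IsAlgClosed Ω] (x x' : Spec (CommRingCat.of Ω) ⟶ X),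
    x ≫ p = x' ≫ p → ∃ g, x ≫ σ g = x'

/-- A monomorphism locally of finite type through which a finite dominant map factors. -/
lemma isIso_of_factor {X Y E : Scheme.{u}} [IsAffine X] [IsAffine Y] {p : X ⟶ Y} [IsFinite p]
    (hinj : Function.Injective p.appTop) (i : E ⟶ Y) [Mono i] [LocallyOfFiniteType i] (l : X ⟶ E)
    (hl : l ≫ i = p) : IsIso i := by
  have hdom : IsDominant p := isDominant_of_of_appTop_injective (f := p) hinj
  have hsurj : Surjective p := ⟨fun y => by
    have h1 : IsClosed (Set.range p) := p.isClosedMap.isClosed_range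
    have h2 := h1.closure_eq ▸ hdom.1.closure_range
    exact (h2 ▸ Set.mem_univ y : y ∈ Set.range p)⟩
  have hsi : Surjective i := ⟨fun y => by
    obtain ⟨x, rfl⟩ := p.surjective y
    exact ⟨l x, by rw [← Scheme.Hom.comp_apply, hl]⟩⟩
  have : Surjective l := ⟨fun e => by
    obtain ⟨x, hx⟩ := p.surjective (i e)
    exact ⟨x, i.injective (by rw [← Scheme.Hom.comp_apply, hl]; exact hx)⟩⟩
  have : UniversallyClosed (l ≫ i) := hl ▸ inferInstance
  have : UniversallyClosed i := UniversallyClosed.of_comp_surjective l i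
  have : IsSeparated i := inferInstance
  have : IsProper i := ⟨⟩
  have : IsClosedImmersion i := (IsClosedImmersion.iff_isProper_and_mono i).2 ⟨‹_›, ‹_›⟩
  refine IsClosedImmersion.isIso_of_injective_of_isAffine (f := i) fun a b e => hinj ?_
  rw [← hl, Scheme.Hom.comp_appTop, CommRingCat.comp_apply, CommRingCat.comp_apply, e]

variable {S : Scheme.{u}} {G : Type u}

/-- Maps to an algebraic space are detected after a finite dominant map. -/
lemma eq_of_comp_eq {N : Sp S} (hN : IsAlgSpace N) {X Y : Over S} [IsAffine X.left] [IsAffine Y.left]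
    (p : X ⟶ Y) [IsFinite p.left] (hinj : Function.Injective p.left.appTop)
    {k k' : (yon S).obj Y ⟶ N} (h : (yon S).map p ≫ k = (yon S).map p ≫ k') : k = k' := by
  let ξ := prod.lift k k'
  obtain ⟨E, i, fst, sq⟩ := hN.diag ξ
  have hm : Mono i.left := (H12AlgSp.repWith_mono_diag hN).property ξ fst i sq
  have hl : LocallyOfFiniteType i.left := (H12AlgSp.repWith_lft_diag hN).property ξ fst i sq
  obtain ⟨l', -, hl'⟩ := sq.exists_lift ((yon S).map p ≫ k) ((yon S).map p) (by
    apply Limits.prod.hom_ext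
    · simp [ξ]
    · simpa [ξ] using h)
  obtain ⟨l, rfl⟩ := (yon S).map_surjective l'
  have hlp : l ≫ i = p := (yon S).map_injective (((yon S).map_comp l i).trans hl')
  have : IsIso i.left :=
    isIso_of_factor hinj i.left l.left (congrArg (fun t => t.left) hlp)
  have : IsIso ((Over.forget S).map i) := ‹IsIso i.left›
  have : IsIso i := isIso_of_reflects_iso i (Over.forget S)
  have e1 : fst = (yon S).map i ≫ k := by simpa [ξ] using sq.w =≫ prod.fst
  have e2 : fst = (yon S).map i ≫ k' := by simpa [ξ] using sq.w =≫ prod.snd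
  exact (cancel_epi ((yon S).map i)).1 (e1.symm.trans e2)

/-- The same for maps to schemes. -/
lemma eq_of_comp_eq_hom {X Y Z : Over S} [IsAffine X.left] [IsAffine Y.left] (p : X ⟶ Y)
    [IsFinite p.left] (hinj : Function.Injective p.left.appTop) {k k' : Y ⟶ Z}
    (h : p ≫ k = p ≫ k') : k = k' :=
  (yon S).map_injective (eq_of_comp_eq (IsAlgSpace.yon_obj Z) p hinj
    (by rw [← Functor.map_comp, ← Functor.map_comp, h]))

/-- Flat affine base change. -/
lemma IsInvQuot.baseChange [Finite G] {X Y E : Scheme.{u}} [IsAffine X] [IsAffine Y] [IsAffine E]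
    {p : X ⟶ Y} {σ : G → (X ⟶ X)} (h : IsInvQuot p σ) (e : E ⟶ Y) [Flat e] :
    IsInvQuot (pullback.snd p e) (fun g => pullback.map p e p e (σ g) (𝟙 E) (𝟙 Y)
      (by rw [Category.comp_id, h.inv]) (by simp)) := by
  have hfin : IsFinite (pullback.snd p e) := MorphismProperty.pullback_snd _ _ h.finite
  let σ' : G → (pullback p e ⟶ pullback p e) := fun g => pullback.map p e p e (σ g) (𝟙 E) (𝟙 Y)
      (by rw [Category.comp_id, h.inv]) (by simp)
  have hσ₂ : ∀ g, σ' g ≫ pullback.snd p e = pullback.snd p e := fun g => by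
    simp [σ', pullback.map]
  have hσ₁ : ∀ g, σ' g ≫ pullback.fst p e = pullback.fst p e ≫ σ g := fun g => by
    simp [σ', pullback.map]
  have hflat : e.appTop.hom.Flat := by
    rw [Scheme.Hom.appTop, Scheme.Hom.app_eq_appLE]
    exact Scheme.Hom.flat_appLE e (isAffineOpen_top Y) (isAffineOpen_top E) _
  have key := H18Quot.invariants_baseChange
    (isPushout_appTop_of_isPullback (IsPullback.of_hasPullback p e)) hflat
    (fun g => (σ g).appTop.hom) (fun g => (σ' g).appTop.hom)
    (fun g r => by rw [← CommRingCat.comp_apply, ← Scheme.Hom.comp_appTop, h.inv])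
    (fun g x => by
      rw [← CommRingCat.comp_apply, ← Scheme.Hom.comp_appTop, hσ₁, Scheme.Hom.comp_appTop,
        CommRingCat.comp_apply])
    (fun g r => by rw [← CommRingCat.comp_apply, ← Scheme.Hom.comp_appTop, hσ₂])
    h.inj h.range
  refine ⟨hfin, hσ₂, key.1, key.2, fun Ω _ _ x x' hx => ?_⟩
  obtain ⟨g, hg⟩ := h.trans Ω (x ≫ pullback.fst p e) (x' ≫ pullback.fst p e) (by
    rw [Category.assoc, Category.assoc, pullback.condition, ← Category.assoc, hx, Category.assoc])
  refine ⟨g, pullback.hom_ext ?_ ?_⟩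
  · rw [Category.assoc]
    exact (congrArg (x ≫ ·) (hσ₁ g)).trans ((Category.assoc _ _ _).symm.trans hg)
  · rw [Category.assoc]
    exact (congrArg (x ≫ ·) (hσ₂ g)).trans hx

/-- Invariant maps to an affine scheme factor. -/
lemma IsInvQuot.exists_desc_affine {X Y V : Scheme.{u}} [IsAffine Y] [IsAffine V] {p : X ⟶ Y}
    {σ : G → (X ⟶ X)} (h : IsInvQuot p σ) (s : X ⟶ V) (hs : ∀ g, σ g ≫ s = s) :
    ∃ k : Y ⟶ V, p ≫ k = s := by
  choose φ hφ using fun a => h.range (s.appTop a) fun g => by
    rw [← CommRingCat.comp_apply, ← Scheme.Hom.comp_appTop, hs]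
  let φ' : Γ(V, ⊤) →+* Γ(Y, ⊤) :=
    { toFun := φ
      map_one' := h.inj (by rw [hφ, map_one, map_one])
      map_zero' := h.inj (by rw [hφ, map_zero, map_zero])
      map_mul' := fun a b => h.inj (by rw [hφ, map_mul, map_mul, hφ, hφ])
      map_add' := fun a b => h.inj (by rw [hφ, map_add, map_add, hφ, hφ]) }
  refine ⟨Y.toSpecΓ ≫ Spec.map (CommRingCat.ofHom φ') ≫ CategoryTheory.inv V.toSpecΓ, ?_⟩
  rw [← Category.assoc, ← Category.assoc, IsIso.comp_inv_eq, Scheme.toSpecΓ_naturality,
    Scheme.toSpecΓ_naturality, Category.assoc, ← Spec.map_comp]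
  exact congrArg (X.toSpecΓ ≫ ·) (congrArg Spec.map (CommRingCat.hom_ext (RingHom.ext hφ)))

variable [Finite G] {X Y : Over S} [IsAffine X.left] [IsAffine Y.left] (p : X ⟶ Y)
  (σ : G → (X ⟶ X)) (hq : IsInvQuot p.left (fun g => (σ g).left))

include hq in
/-- Etale locally on the quotient, an invariant map lifts to an affine chart. -/
lemma exists_local_desc {N : Sp S} (hN : IsAlgSpace N) (f : (yon S).obj X ⟶ N)
    (hf : ∀ g, (yon S).map (σ g) ≫ f = f) (y : Y.left) :
    ∃ (E : Over S) (e : E ⟶ Y) (_ : IsAffine E.left) (_ : Etale e.left) (k : (yon S).obj E ⟶ N),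
      y ∈ Set.range e.left ∧ ∀ (T : Over S) (a : T ⟶ X) (b : T ⟶ E), a ≫ p = b ≫ e →
        (yon S).map a ≫ f = (yon S).map b ≫ k := by
  let Ω := AlgebraicClosure (Y.left.residueField y)
  let sΩ := Spec (CommRingCat.of Ω)
  let pt := IsLocalRing.closedPoint Ω
  let yb : sΩ ⟶ Y.left := Spec.map (CommRingCat.ofHom (algebraMap (Y.left.residueField y) Ω)) ≫
    Y.left.fromSpecResidueField y
  have hyb : yb pt = y := by
    rw [Scheme.Hom.comp_apply]
    exact Scheme.fromSpecResidueField_apply _ _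
  have : IsFinite p.left := hq.finite
  have hsurj : Surjective p.left := by
    have hdom : IsDominant p.left := isDominant_of_of_appTop_injective (f := p.left) hq.inj
    refine ⟨fun z => ?_⟩
    have h1 : IsClosed (Set.range p.left) := p.left.isClosedMap.isClosed_range
    have h2 := h1.closure_eq ▸ hdom.1.closure_range
    exact (h2 ▸ Set.mem_univ z : z ∈ Set.range p.left)
  obtain ⟨z₀, hz₀⟩ := p.left.surjective y
  obtain ⟨x₀, hx₀, -⟩ := exists_point_lift p.left yb z₀ (hz₀.trans hyb.symm)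
  have hfinF : Finite {x : sΩ ⟶ X.left // x ≫ p.left = yb} :=
    Finite.of_surjective (fun g : G => ⟨x₀ ≫ (σ g).left, by rw [Category.assoc, hq.inv, hx₀]⟩)
      fun x => by
        obtain ⟨g, hg⟩ := hq.trans Ω x₀ x.1 (hx₀.trans x.2.symm)
        exact ⟨g, Subtype.ext hg⟩
  -- a chart through the image
  obtain ⟨U, d₀, hd₀, hd₀s⟩ := hN.atlas
  obtain ⟨W₀, a₀, b₀, sq₀⟩ := H12AlgSp.Hilb.exists_square hd₀.1 f
  have ha₀ : Etale a₀.left := hd₀.property f _ a₀ sq₀
  have ha₀s : Surjective a₀.left := hd₀s.property f _ a₀ sq₀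
  obtain ⟨w₀, hw₀⟩ := a₀.left.surjective (x₀ pt)
  obtain ⟨_, ⟨V₀, hV₀, rfl⟩, hv₀, -⟩ := U.left.isBasis_affineOpens.exists_subset_of_mem_open
    (Set.mem_univ (b₀.left w₀)) isOpen_univ
  let V : Over S := Over.mk (Scheme.Opens.ι V₀ ≫ U.hom)
  let ιV : V ⟶ U := Over.homMk (Scheme.Opens.ι V₀) rfl
  have : IsAffine V.left := hV₀
  let d := (yon S).map ιV ≫ d₀
  have : LocallyQuasiFinite a₀.left := H12AlgSp.lqf_of_etale a₀.left
  obtain ⟨c₀, hc₀, hc₀w⟩ := exists_point_lift a₀.left x₀ w₀ hw₀
  have hr₀ : Set.range (c₀ ≫ b₀.left) ⊆ Set.range (Scheme.Opens.ι V₀) := by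
    rintro _ ⟨t, rfl⟩
    rw [Subsingleton.elim t pt, Scheme.Hom.comp_apply, hc₀w, Scheme.Opens.range_ι]
    exact hv₀
  let v : sΩ ⟶ V.left := IsOpenImmersion.lift (Scheme.Opens.ι V₀) (c₀ ≫ b₀.left) hr₀
  let T₀ : Over S := Over.mk (x₀ ≫ X.hom)
  let x₀' : T₀ ⟶ X := Over.homMk x₀ rfl
  let c₀' : T₀ ⟶ W₀ := Over.homMk c₀ (by
    rw [← Over.w a₀, ← Category.assoc, hc₀]; rfl)
  let v' : T₀ ⟶ V := Over.homMk v (by
    change v ≫ Scheme.Opens.ι V₀ ≫ U.hom = _
    rw [← Category.assoc, IsOpenImmersion.lift_fac, Category.assoc, Over.w b₀]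
    exact Over.w c₀')
  have hv' : (yon S).map v' ≫ d = (yon S).map x₀' ≫ f := by
    have e1 : v' ≫ ιV = c₀' ≫ b₀ := Over.OverMorphism.ext (IsOpenImmersion.lift_fac _ _ _)
    have e2 : c₀' ≫ a₀ = x₀' := Over.OverMorphism.ext hc₀
    rw [← Category.assoc, ← Functor.map_comp, e1, Functor.map_comp, Category.assoc, sq₀.w,
      ← Category.assoc, ← Functor.map_comp, e2]
  have hd : RepWith @Etale d :=
    MorphismProperty.comp_mem _ _ _ ((AlgSp.repWith_yon_map_iff _ ιV).2
      (inferInstanceAs (Etale (Scheme.Opens.ι V₀)))) hd₀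
  -- the pullback of the chart and its points over the fibre
  obtain ⟨W, a, b, sq⟩ := H12AlgSp.Hilb.exists_square hd.1 f
  have : Etale a.left := hd.property f _ a sq
  have hpts : ∀ x : {x : sΩ ⟶ X.left // x ≫ p.left = yb},
      ∃ w : sΩ ⟶ W.left, w ≫ a.left = x.1 ∧ w ≫ b.left = v := fun x => by
    obtain ⟨g, hg⟩ := hq.trans Ω x₀ x.1 (hx₀.trans x.2.symm)
    obtain ⟨w, hw1, hw2⟩ := sq.exists_lift ((yon S).map v') ((yon S).map (x₀' ≫ σ g))
      (by rw [hv', Functor.map_comp, Category.assoc, hf])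
    obtain ⟨w, rfl⟩ := (yon S).map_surjective w
    rw [← Functor.map_comp] at hw1 hw2
    exact ⟨w.left, (congrArg (fun t => t.left) ((yon S).map_injective hw2)).trans hg,
      congrArg (fun t => t.left) ((yon S).map_injective hw1)⟩
  choose w hwa hwb using hpts
  obtain ⟨E₁, _, e₁, _, de, hde, s, hs, hsw⟩ := exists_nbhd_section p.left a.left yb w hwa
  -- invariance near the fibre
  let P₁ : Over S := Over.mk (pullback.fst p.left e₁ ≫ X.hom)
  let pr : P₁ ⟶ X := Over.homMk (pullback.fst p.left e₁) rfl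
  let sW : P₁ ⟶ W := Over.homMk s (by
    rw [← Over.w a, ← Category.assoc, hs]; rfl)
  let s₂ : P₁ ⟶ V := sW ≫ b
  have hs₂ : (yon S).map s₂ ≫ d = (yon S).map pr ≫ f := by
    have e2 : sW ≫ a = pr := Over.OverMorphism.ext hs
    rw [Functor.map_comp, Category.assoc, sq.w, ← Category.assoc, ← Functor.map_comp, e2]
  let τ : G → (pullback p.left e₁ ⟶ pullback p.left e₁) := fun g =>
    pullback.map p.left e₁ p.left e₁ (σ g).left (𝟙 _) (𝟙 _)
      (by rw [Category.comp_id, hq.inv]) (by simp)
  let τ' : G → (P₁ ⟶ P₁) := fun g => Over.homMk (τ g) (by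
    change τ g ≫ pullback.fst p.left e₁ ≫ X.hom = pullback.fst p.left e₁ ≫ X.hom
    simp [τ, pullback.map])
  have hτ : ∀ g, τ' g ≫ pr = pr ≫ σ g := fun g => Over.OverMorphism.ext (by
    simp [τ', τ, pr, pullback.map])
  obtain ⟨Rel, r₁, r₂, sqR⟩ := H12AlgSp.Hilb.exists_square hd.1 d
  have : Etale r₁.left := hd.property d _ r₁ sqR
  obtain ⟨δ, hδ₁, hδ₂⟩ : ∃ δ : V ⟶ Rel, δ ≫ r₂ = 𝟙 V ∧ δ ≫ r₁ = 𝟙 V := by
    obtain ⟨δ, h1, h2⟩ := sqR.exists_lift (𝟙 ((yon S).obj V)) (𝟙 _) rfl
    obtain ⟨δ, rfl⟩ := (yon S).map_surjective δ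
    exact ⟨δ, (yon S).map_injective (by rw [Functor.map_comp, h1, CategoryTheory.Functor.map_id]),
      (yon S).map_injective (by rw [Functor.map_comp, h2, CategoryTheory.Functor.map_id])⟩
  have hδl : δ.left ≫ r₁.left = 𝟙 _ := congrArg (fun t => t.left) hδ₂
  have : Etale (δ.left ≫ r₁.left) := by rw [hδl]; infer_instance
  have : Etale δ.left := Etale.of_comp δ.left r₁.left
  have : IsSplitMono δ.left := ⟨⟨⟨r₁.left, hδl⟩⟩⟩
  have : IsOpenImmersion δ.left := IsOpenImmersion.of_flat_of_mono δ.left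
  have hpair : ∀ g, ∃ r : P₁ ⟶ Rel, r ≫ r₂ = τ' g ≫ s₂ ∧ r ≫ r₁ = s₂ := fun g => by
    obtain ⟨r, h1, h2⟩ := sqR.exists_lift ((yon S).map (τ' g ≫ s₂)) ((yon S).map s₂) (by
      rw [Functor.map_comp, Category.assoc, hs₂, ← Category.assoc, ← Functor.map_comp, hτ,
        Functor.map_comp, Category.assoc, hf])
    obtain ⟨r, rfl⟩ := (yon S).map_surjective r
    rw [← Functor.map_comp] at h1 h2
    exact ⟨r, (yon S).map_injective h1, (yon S).map_injective h2⟩
  choose r hr2 hr1 using hpair
  let q₁ := pullback.snd p.left e₁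
  let O : Set E₁ := ⋂ g, (q₁ '' (r g).left ⁻¹' (Set.range δ.left)ᶜ)ᶜ
  have hO : IsOpen O := isOpen_iInter_of_finite fun g => (q₁.isClosedMap _
    (δ.left.isOpenEmbedding.isOpen_range.isClosed_compl.preimage (r g).left.continuous)).isOpen_compl
  have hdO : de pt ∈ O := by
    refine Set.mem_iInter.2 fun g => ?_
    rintro ⟨z, hz, ez⟩
    obtain ⟨t, ht, rfl⟩ := exists_point_lift q₁ de z ez
    let Tt : Over S := Over.mk (t ≫ P₁.hom)
    let t' : Tt ⟶ P₁ := Over.homMk t rfl
    have key : ∀ u : sΩ ⟶ pullback p.left e₁, u ≫ q₁ = de → u ≫ s ≫ b.left = v := fun u hu => by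
      have hx : (u ≫ pullback.fst p.left e₁) ≫ p.left = yb := by
        rw [Category.assoc, pullback.condition, ← Category.assoc, hu, hde]
      have hul : u = pullback.lift (u ≫ pullback.fst p.left e₁) de (hx.trans hde.symm) :=
        pullback.hom_ext (pullback.lift_fst _ _ _).symm (hu.trans (pullback.lift_snd _ _ _).symm)
      rw [hul, ← Category.assoc, hsw ⟨_, hx⟩, hwb]
    have e1 : t ≫ (τ' g).left ≫ s₂.left = t ≫ s₂.left := by
      have h2 : (t ≫ τ g) ≫ q₁ = de := by
        rw [Category.assoc]; simpa [τ, q₁, pullback.map] using ht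
      exact ((Category.assoc _ _ _).symm.trans (key _ h2)).trans (key t ht).symm
    have e2 : t' ≫ r g = (t' ≫ s₂) ≫ δ := by
      apply (yon S).map_injective
      refine sqR.hom_ext ?_ ?_
      · rw [← Functor.map_comp, ← Functor.map_comp, Category.assoc, hr2, Category.assoc, hδ₁,
          Category.comp_id]
        exact congrArg _ (Over.OverMorphism.ext e1)
      · rw [← Functor.map_comp, ← Functor.map_comp, Category.assoc, hr1, Category.assoc, hδ₂,
          Category.comp_id]
    exact hz ⟨(t ≫ s₂.left) pt, (congrArg (fun k : Tt ⟶ Rel => k.left pt) e2).symm⟩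
  obtain ⟨_, ⟨E₀, hE₀, rfl⟩, hdE, hEO⟩ := E₁.isBasis_affineOpens.exists_subset_of_mem_open hdO hO
  let j := Scheme.Opens.ι E₀
  have : IsAffine (Scheme.Opens.toScheme E₀) := hE₀
  let E : Over S := Over.mk ((j ≫ e₁) ≫ Y.hom)
  let e : E ⟶ Y := Over.homMk (j ≫ e₁) rfl
  let P : Over S := Over.mk (pullback.fst p.left e.left ≫ X.hom)
  let φ : P ⟶ P₁ := Over.homMk (pullback.lift (pullback.fst p.left e.left)
      (pullback.snd p.left e.left ≫ j) (by rw [Category.assoc]; exact pullback.condition)) (by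
    change pullback.lift _ _ _ ≫ pullback.fst p.left e₁ ≫ X.hom = pullback.fst p.left e.left ≫ X.hom
    rw [pullback.lift_fst_assoc])
  have hinv : ∀ g, φ ≫ τ' g ≫ s₂ = φ ≫ s₂ := by
    intro g
    have hl : Set.range (φ ≫ r g).left ⊆ Set.range δ.left := by
      rintro _ ⟨t, rfl⟩
      by_contra hc
      refine Set.mem_iInter.1 (hEO (?_ : q₁ (φ.left t) ∈ (E₀ : Set E₁))) g ⟨φ.left t, hc, rfl⟩
      erw [← Scheme.Hom.comp_apply]
      simp only [φ, q₁, Over.homMk_left, pullback.lift_snd]
      exact (Scheme.Opens.range_ι E₀).le ⟨_, rfl⟩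
    let m := IsOpenImmersion.lift δ.left (φ ≫ r g).left hl
    have hf' := IsOpenImmersion.lift_fac δ.left (φ ≫ r g).left hl
    apply Over.OverMorphism.ext
    have h1 : (φ ≫ s₂).left = m := by
      rw [← hr1 g, ← Category.assoc, Over.comp_left, ← hf', Category.assoc, hδl, Category.comp_id]
    have h2 : (φ ≫ τ' g ≫ s₂).left = m := by
      rw [← hr2 g, ← Category.assoc, Over.comp_left, ← hf', Category.assoc,
        show δ.left ≫ r₂.left = 𝟙 _ from congrArg (fun t => t.left) hδ₁, Category.comp_id]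
    exact h2.trans h1.symm
  have : IsAffine E.left := hE₀
  have : Flat e.left := inferInstanceAs (Flat (j ≫ e₁))
  have hqE := hq.baseChange e.left
  obtain ⟨k₀, hk₀⟩ := hqE.exists_desc_affine (φ ≫ s₂).left fun g => by
    refine Eq.trans ?_ (congrArg (fun k : P ⟶ V => k.left) (hinv g))
    change pullback.map p.left e.left p.left e.left (σ g).left (𝟙 _) (𝟙 _) _ _ ≫ φ.left ≫ s₂.left =
      φ.left ≫ τ g ≫ s₂.left
    rw [← Category.assoc, ← Category.assoc φ.left]
    congr 1
    apply pullback.hom_ext <;> simp [φ, τ, pullback.map]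
  let pE : P ⟶ E := Over.homMk (pullback.snd p.left e.left) (by
    change pullback.snd p.left e.left ≫ e.left ≫ Y.hom = pullback.fst p.left e.left ≫ X.hom
    rw [← Over.w p, ← Category.assoc, ← Category.assoc, pullback.condition])
  have : IsAffine P.left := inferInstanceAs (IsAffine (pullback p.left e.left))
  have : IsFinite pE.left := hqE.finite
  have hk₀V : k₀ ≫ V.hom = E.hom := by
    let Z : Over S := Over.mk (𝟙 S)
    let ka : E ⟶ Z := Over.homMk E.hom (Category.comp_id _)
    have h1 : pullback.snd p.left e.left ≫ k₀ ≫ V.hom = pE.left ≫ E.hom := by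
      rw [← Category.assoc, hk₀]
      exact (Over.w (φ ≫ s₂)).trans (Over.w pE).symm
    have : IsAffine (Over.mk (terminal.from P.left)).left := ‹IsAffine P.left›
    have : IsAffine (Over.mk (terminal.from E.left)).left := ‹IsAffine E.left›
    have : IsFinite (Over.homMk pE.left (terminal.hom_ext _ _) :
        Over.mk (terminal.from P.left) ⟶ Over.mk (terminal.from E.left)).left := ‹IsFinite pE.left›
    exact congrArg (fun t => t.left) (eq_of_comp_eq_hom (S := ⊤_ Scheme.{u})
      (X := Over.mk (terminal.from P.left)) (Y := Over.mk (terminal.from E.left))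
      (Z := Over.mk (terminal.from S)) (Over.homMk pE.left (terminal.hom_ext _ _)) hqE.inj
      (k := Over.homMk (k₀ ≫ V.hom) (terminal.hom_ext _ _))
      (k' := Over.homMk E.hom (terminal.hom_ext _ _)) (Over.OverMorphism.ext h1))
  let k : E ⟶ V := Over.homMk k₀ hk₀V
  refine ⟨E, e, hE₀, inferInstanceAs (Etale (j ≫ e₁)), (yon S).map k ≫ d, ?_, fun T a' b' hab => ?_⟩
  · obtain ⟨o, ho⟩ := (Scheme.Opens.range_ι E₀).ge hdE
    refine ⟨o, ?_⟩
    change (j ≫ e₁) o = y
    rw [Scheme.Hom.comp_apply, ho, ← Scheme.Hom.comp_apply, hde, hyb]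
  · let l : T ⟶ P := Over.homMk (pullback.lift a'.left b'.left (congrArg (fun t => t.left) hab)) (by
      change pullback.lift _ _ _ ≫ pullback.fst p.left e.left ≫ X.hom = T.hom
      rw [pullback.lift_fst_assoc, Over.w])
    have hla : l ≫ φ ≫ pr = a' := Over.OverMorphism.ext (by simp [l, φ, pr])
    have hlb : l ≫ φ ≫ s₂ = b' ≫ k := Over.OverMorphism.ext (by
      change l.left ≫ (φ ≫ s₂).left = b'.left ≫ k₀
      rw [← hk₀, ← Category.assoc]
      congr 1
      exact pullback.lift_snd _ _ _)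
    rw [← hla, ← Category.assoc ((yon S).map b'), ← Functor.map_comp, ← hlb]
    simp only [Functor.map_comp, Category.assoc, hs₂]

include hq in
/-- An invariant map from `X` to an algebraic space factors uniquely through the quotient. -/
theorem existsUnique_factor {N : Sp S} (hN : IsAlgSpace N) (f : (yon S).obj X ⟶ N)
    (hf : ∀ g, (yon S).map (σ g) ≫ f = f) :
    ∃! k : (yon S).obj Y ⟶ N, (yon S).map p ≫ k = f := by
  have : IsFinite p.left := hq.finite
  refine existsUnique_of_exists_of_unique ?_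
    (fun k k' h h' => eq_of_comp_eq hN p hq.inj (h.trans h'.symm))
  choose E e hE he k hy hk using exists_local_desc p σ hq hN f hf
  have hJ : Sieve.ofArrows E e ∈ J S Y := H13AlgSp.ofArrows_mem_J _
    (fun i => by have := he i; infer_instance) (fun i => by have := he i; infer_instance)
    (fun y => ⟨y, hy y⟩)
  have compat : ∀ (i j : Y.left) (W : Over S) (l : W ⟶ E i) (l' : W ⟶ E j),
      l ≫ e i = l' ≫ e j → (yon S).map l ≫ k i = (yon S).map l' ≫ k j := by
    intro i j W l l' hll
    have := hE i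
    have := hE j
    have := he i
    have := he j
    let D : Over S := Over.mk ((pullback.fst (e i).left (e j).left ≫ (e i).left) ≫ Y.hom)
    let dY : D ⟶ Y := Over.homMk (pullback.fst (e i).left (e j).left ≫ (e i).left) rfl
    let d₁ : D ⟶ E i := Over.homMk (pullback.fst (e i).left (e j).left) (by
      change _ ≫ (E i).hom = (_ ≫ (e i).left) ≫ Y.hom
      rw [Category.assoc, Over.w])
    let d₂ : D ⟶ E j := Over.homMk (pullback.snd (e i).left (e j).left) (by
      change _ ≫ (E j).hom = (_ ≫ (e i).left) ≫ Y.hom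
      rw [pullback.condition, Category.assoc, Over.w])
    have hd₁ : d₁ ≫ e i = dY := Over.OverMorphism.ext rfl
    have hd₂ : d₂ ≫ e j = dY := Over.OverMorphism.ext pullback.condition.symm
    have : IsAffine D.left := inferInstanceAs (IsAffine (pullback (e i).left (e j).left))
    have : Flat dY.left := inferInstanceAs (Flat (pullback.fst (e i).left (e j).left ≫ (e i).left))
    have hqD := hq.baseChange dY.left
    let P : Over S := Over.mk (pullback.fst p.left dY.left ≫ X.hom)
    let pa : P ⟶ X := Over.homMk (pullback.fst p.left dY.left) rfl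
    let pD : P ⟶ D := Over.homMk (pullback.snd p.left dY.left) (by
      change pullback.snd p.left dY.left ≫ dY.left ≫ Y.hom = pullback.fst p.left dY.left ≫ X.hom
      rw [← Over.w p, ← Category.assoc, ← Category.assoc, pullback.condition])
    have : IsAffine P.left := inferInstanceAs (IsAffine (pullback p.left dY.left))
    have : IsFinite pD.left := hqD.finite
    have hpa : pa ≫ p = pD ≫ dY := Over.OverMorphism.ext pullback.condition
    have key : (yon S).map d₁ ≫ k i = (yon S).map d₂ ≫ k j := eq_of_comp_eq hN pD hqD.inj (by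
      rw [← Category.assoc, ← Category.assoc, ← Functor.map_comp, ← Functor.map_comp,
        ← hk i P pa (pD ≫ d₁) (by rw [Category.assoc, hd₁, hpa]),
        ← hk j P pa (pD ≫ d₂) (by rw [Category.assoc, hd₂, hpa])])
    let m : W ⟶ D := Over.homMk (pullback.lift l.left l'.left (congrArg (fun t => t.left) hll)) (by
      change pullback.lift _ _ _ ≫ (pullback.fst _ _ ≫ (e i).left) ≫ Y.hom = W.hom
      rw [← Category.assoc, ← Category.assoc, pullback.lift_fst, Category.assoc, Over.w, Over.w])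
    have hm₁ : m ≫ d₁ = l := Over.OverMorphism.ext (pullback.lift_fst _ _ _)
    have hm₂ : m ≫ d₂ = l' := Over.OverMorphism.ext (pullback.lift_snd _ _ _)
    rw [← hm₁, ← hm₂, Functor.map_comp, Functor.map_comp, Category.assoc, Category.assoc, key]
  have hlift : ∀ {W : Over S} (g : W ⟶ Y), Sieve.ofArrows E e g →
      ∃ (i : Y.left) (l : W ⟶ E i), l ≫ e i = g := fun g hg => by
    obtain ⟨V, l, _, ⟨i⟩, rfl⟩ := hg
    exact ⟨i, l, rfl⟩
  choose iW lW hlW using @hlift
  obtain ⟨K, hK⟩ := H14Quot.yon_glue hJ (fun W g hg => (yon S).map (lW g hg) ≫ k (iW g hg))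
    (fun {W W'} c g hg => by
      rw [← Category.assoc, ← Functor.map_comp]
      exact compat _ _ _ _ _ (by rw [Category.assoc, hlW, hlW]))
  refine ⟨K, H14Quot.yon_ext ((J S).pullback_stable p hJ) fun W g hg => ?_⟩
  rw [← Category.assoc, ← Functor.map_comp, hK _ hg]
  exact (hk _ W g _ (hlW _ hg).symm).symm

end Groth.Agent.H14FinQuot
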