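import Groth.Agent.H14FinQuot.ConstQuot
import Groth.Agent.H14Fib.Fp
import Groth.Agent.H14Stk.Psh

/-!
# Flat affine base change of the coarse moduli space of `[Spec A/G]`
-/

set_option autoImplicit false
set_option backward.isDefEq.respectTransparency false
set_option backward.isDefEq.respectTransparency.types false

universe u v w

open CategoryTheory CategoryTheory.Limits MonoidalCategory CartesianMonoidalCategory MonObj GrpObj
open AlgebraicGeometry Opposite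
open AlgSp (yon J)

noncomputable section

namespace Groth.Agent.H14FinQuot

lemma secAt_of_obj_eq {C : Type u} [Category.{v} C] {P : Cᵒᵖ ⥤ Type w} {𝒜 : BasedCategory C}
    (G : 𝒜 ⥤ᵇ Stk.ofPsh P) (a : 𝒜.obj) (s : P.obj (op (𝒜.p.obj a)))
    (h : G.obj a = ⟨𝒜.p.obj a, s⟩) : H14Stk.secAt G a = s := by
  have h' : ∀ (x : Stk.EltObj P) (hb : x.base = 𝒜.p.obj a), x = ⟨𝒜.p.obj a, s⟩ →
      P.map (eqToHom hb.symm).op x.sec = s := by
    rintro x hb rfl
    exact H14Stk.pmap_id s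
  exact h' (G.obj a) (G.w_obj a) h

lemma eltHom_eqToHom {C : Type u} [Category.{v} C] {P : Cᵒᵖ ⥤ Type w} {a b : Stk.EltObj P}
    (h : a = b) : (eqToHom h).hom = eqToHom (congrArg Stk.EltObj.base h) := by
  subst h; rfl

open ConstAct

variable (R : Type u) [CommRing R] (A : Type u) [CommRing A] [Algebra R A]
variable (G : Type u) [Group G] [Fintype G] [DecidableEq G] [MulSemiringAction G A]
  [SMulCommClass G R A]
variable (π : quotSt R A G Scheme.fppfPrecoverage ⥤ᵇ AlgSt.ofSch (specInv R A G))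
  (hπ : BasedFunctor.comp
      (AlgSt.quotMap Scheme.fppfPrecoverage (GR R G) (gaction R A G)) π =
    AlgSt.ofSpMap ((yon (Spec (CommRingCat.of R))).map (quot R A G)))
variable {Y' : Over (Spec (CommRingCat.of R))} (g : Y' ⟶ specInv R A G)

/-- The base change of the quotient stack. -/
abbrev BC := FibCat.fp (AlgSt.ofSpMap ((yon (Spec (CommRingCat.of R))).map g)) π

variable {R A G π g}

/-- The point of the base of an object of the base change. -/
def ptOf (ω : (BC R A G π g).obj) : (BC R A G π g).p.obj ω ⟶ Y' := ω.obj.fst.sec.down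

include hπ in
lemma ob_eq {W : Over (Spec (CommRingCat.of R))} {x : W ⟶ X R A} {y : W ⟶ Y'}
    (h : x ≫ quot R A G = y ≫ g) :
    (AlgSt.ofSpMap ((yon (Spec (CommRingCat.of R))).map g)).obj ⟨W, ULift.up y⟩ =
      π.obj (H14Quot.triv Scheme.fppfPrecoverage (GR R G) (gaction R A G) x) := by
  refine Eq.trans ?_ (congrArg (fun F => F.obj ((AlgSt.ofOverCat (X R A)).obj (Over.mk x))) hπ).symm
  change (⟨W, ULift.up (y ≫ g)⟩ : Stk.EltObj ((yon _).obj (specInv R A G)).obj) =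
    ⟨W, ULift.up (x ≫ quot R A G)⟩
  rw [h]

/-- The object of the base change attached to compatible points. -/
def ob {W : Over (Spec (CommRingCat.of R))} (x : W ⟶ X R A) (y : W ⟶ Y')
    (h : x ≫ quot R A G = y ≫ g) : (BC R A G π g).obj :=
  ⟨{ fst := ⟨W, ULift.up y⟩
     snd := H14Quot.triv Scheme.fppfPrecoverage (GR R G) (gaction R A G) x
     iso := eqToIso (ob_eq hπ h) },
   IsHomLift.of_fac' _ _ _ rfl ((π.w_obj _).trans rfl) (by
    change (eqToHom (ob_eq hπ h)).hom = _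
    rw [eltHom_eqToHom]
    simp)⟩

/-- A section of the torsor of an object gives a morphism into it. -/
lemma exists_obHom (ω : (BC R A G π g).obj) {W : Over (Spec (CommRingCat.of R))}
    (σ : W ⟶ ω.obj.snd.P) (u : W ⟶ (BC R A G π g).p.obj ω)
    (hu : σ ≫ ω.obj.snd.π = u ≫ eqToHom (H14Fib.fp_snd_obj ω).symm)
    (x : W ⟶ X R A) (hx : σ ≫ ω.obj.snd.φ = x) (y : W ⟶ Y') (hy : u ≫ ptOf ω = y)
    (h : x ≫ quot R A G = y ≫ g) :
    ∃ m : ob hπ x y h ⟶ ω, (BC R A G π g).p.IsHomLift u m := by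
  let m := H14Quot.homOfSec (A := ω.obj.snd) σ hx
  let a : (⟨W, ULift.up y⟩ : Stk.EltObj ((yon _).obj Y').obj) ⟶ ω.obj.fst :=
    ⟨u, congrArg ULift.up hy⟩
  have hw : (AlgSt.ofSpMap ((yon _).map g)).map a ≫ ω.obj.iso.hom =
      (eqToIso (ob_eq hπ h)).hom ≫ π.map m := by
    apply Stk.EltObj.hom_ext
    have h1 : ω.obj.iso.hom.hom = eqToHom rfl ≫ 𝟙 _ ≫
        eqToHom ((H14Fib.fp_snd_obj ω).symm.trans (π.w_obj ω.obj.snd).symm) :=
      @IsHomLift.fac' _ _ _ _ _ _ _ _ _ _ _ ω.property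
    have h2 : (π.map m).hom = eqToHom (π.w_obj _) ≫ m.base ≫ eqToHom (π.w_obj ω.obj.snd).symm :=
      Functor.congr_hom π.w m
    change u ≫ ω.obj.iso.hom.hom = (eqToHom (ob_eq hπ h)).hom ≫ (π.map m).hom
    rw [h1, h2, eltHom_eqToHom, show m.base = σ ≫ ω.obj.snd.π from rfl, hu]
    simp
  refine ⟨H14Fib.fpHom (x := ob hπ x y h) a m hw, (H14Fib.fp_isHomLift_iff u _).2 ?_⟩
  exact IsHomLift.map _ a

lemma secAt_restrict {Q : AlgSp.Sp (Spec (CommRingCat.of R))}
    (φ : BC R A G π g ⥤ᵇ AlgSt.ofSp Q) (ω : (BC R A G π g).obj)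
    {W : Over (Spec (CommRingCat.of R))} (σ : W ⟶ ω.obj.snd.P)
    (u : W ⟶ (BC R A G π g).p.obj ω)
    (hu : σ ≫ ω.obj.snd.π = u ≫ eqToHom (H14Fib.fp_snd_obj ω).symm)
    (x : W ⟶ X R A) (hx : σ ≫ ω.obj.snd.φ = x) (y : W ⟶ Y') (hy : u ≫ ptOf ω = y)
    (h : x ≫ quot R A G = y ≫ g) :
    (yon _).map u ≫ ((J _).uliftYonedaEquiv).symm (H14Stk.secAt φ ω) =
      ((J _).uliftYonedaEquiv).symm (H14Stk.secAt φ (ob hπ x y h)) := by
  obtain ⟨m, hm⟩ := exists_obHom hπ ω σ u hu x hx y hy h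
  apply (J _).uliftYonedaEquiv.injective
  refine (H14Quot.equiv_map u _).symm.trans ?_
  refine (congrArg _ (Equiv.apply_symm_apply _ _)).trans (Eq.trans ?_ (Equiv.apply_symm_apply _ _).symm)
  obtain rfl : u = (BC R A G π g).p.map m :=
    @IsHomLift.eq_of_isHomLift _ _ _ _ (BC R A G π g).p (ob hπ x y h) ω u m hm
  exact H14Stk.secAt_natural φ m

/-- Naturality of the section at the standard objects. -/
lemma secAt_ob_nat {Q : AlgSp.Sp (Spec (CommRingCat.of R))}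
    (φ : BC R A G π g ⥤ᵇ AlgSt.ofSp Q) {W W' : Over (Spec (CommRingCat.of R))} (u : W' ⟶ W)
    (x : W ⟶ X R A) (y : W ⟶ Y') (h : x ≫ quot R A G = y ≫ g) :
    (yon _).map u ≫ ((J _).uliftYonedaEquiv).symm (H14Stk.secAt φ (ob hπ x y h)) =
      ((J _).uliftYonedaEquiv).symm (H14Stk.secAt φ (ob hπ (u ≫ x) (u ≫ y)
        (by rw [Category.assoc, Category.assoc, h]))) :=
  secAt_restrict hπ φ (ob hπ x y h)
    (u ≫ H14Quot.secOfHom (𝟙 (H14Quot.triv Scheme.fppfPrecoverage (GR R G) (gaction R A G) x))) u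
    (by
      change (u ≫ H14Quot.secOfHom _) ≫ _ = _
      exact (Category.assoc _ _ _).trans (congrArg (u ≫ ·) (H14Quot.secOfHom_π
        (𝟙 (H14Quot.triv Scheme.fppfPrecoverage (GR R G) (gaction R A G) x)))))
    (u ≫ x) ((Category.assoc _ _ _).trans (congrArg (u ≫ ·) (H14Quot.secOfHom_φ
      (𝟙 (H14Quot.triv Scheme.fppfPrecoverage (GR R G) (gaction R A G) x))))) (u ≫ y) rfl _

lemma act_triv (c₀ : G) {W : Over (Spec (CommRingCat.of R))} (x : W ⟶ X R A) :
    lift (x ≫ γpt R A G c₀ ≫ fst (GR R G) (X R A)) (𝟙 W) ≫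
      (H14Quot.triv Scheme.fppfPrecoverage (GR R G) (gaction R A G) x).φ = x ≫ act R A G c₀ := by
  have e : lift (x ≫ γpt R A G c₀ ≫ fst (GR R G) (X R A)) x = x ≫ γpt R A G c₀ := by
    apply CartesianMonoidalCategory.hom_ext
    · rw [lift_fst, Category.assoc]
    · rw [lift_snd, Category.assoc]
      exact ((congrArg (x ≫ ·) (γpt_snd R A G c₀)).trans (Category.comp_id x)).symm
  have h2 : (x ≫ γpt R A G c₀) ≫ (gaction R A G).act = x ≫ act R A G c₀ :=
    (Category.assoc _ _ _).trans (congrArg (x ≫ ·) (γpt_act R A G c₀))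
  refine Eq.trans ?_ h2
  change lift _ (𝟙 W) ≫ (GR R G ◁ x) ≫ (gaction R A G).act = _
  rw [lift_whiskerLeft_assoc, Category.id_comp, e]

/-- Invariance of the section at the standard objects. -/
lemma secAt_ob_act {Q : AlgSp.Sp (Spec (CommRingCat.of R))}
    (φ : BC R A G π g ⥤ᵇ AlgSt.ofSp Q) (c₀ : G) {W : Over (Spec (CommRingCat.of R))}
    (x : W ⟶ X R A) (y : W ⟶ Y') (h : x ≫ quot R A G = y ≫ g)
    (h' : (x ≫ act R A G c₀) ≫ quot R A G = y ≫ g) :
    (((J _).uliftYonedaEquiv).symm (H14Stk.secAt φ (ob hπ x y h)) : (yon _).obj W ⟶ Q) =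
      ((J _).uliftYonedaEquiv).symm (H14Stk.secAt φ (ob hπ (x ≫ act R A G c₀) y h')) := by
  have e := secAt_restrict hπ φ (ob hπ x y h)
    (lift (x ≫ γpt R A G c₀ ≫ fst (GR R G) (X R A)) (𝟙 W)) (𝟙 W)
    ((lift_snd _ _).trans (Category.id_comp _).symm) (x ≫ act R A G c₀) (act_triv c₀ x) y
    (Category.id_comp _) h'
  exact ((congrArg (· ≫ _) ((yon _).map_id W)).trans (Category.id_comp _)).symm.trans e

include hπ in
/-- The compatibility of the two components of an object, after a section. -/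
lemma compat (ω : (BC R A G π g).obj) :
    ω.obj.snd.φ ≫ quot R A G =
      (ω.obj.snd.π ≫ eqToHom (H14Fib.fp_snd_obj ω) ≫ ptOf ω) ≫ g := by
  let Aω := ω.obj.snd
  let m := H14Quot.homOfSec (A := Aω) (𝟙 Aω.P) (Category.id_comp Aω.φ)
  have h1 := H14Stk.secAt_natural π m
  rw [secAt_of_obj_eq π (H14Quot.triv Scheme.fppfPrecoverage (GR R G) (gaction R A G) Aω.φ)
    (ULift.up (Aω.φ ≫ quot R A G))
    (congrArg (fun F => F.obj ((AlgSt.ofOverCat (X R A)).obj (Over.mk Aω.φ))) hπ)] at h1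
  have h4 := ω.obj.iso.hom.map_sec
  rw [show ω.obj.iso.hom.hom = eqToHom rfl ≫ 𝟙 _ ≫
      eqToHom ((H14Fib.fp_snd_obj ω).symm.trans (π.w_obj ω.obj.snd).symm) from
    @IsHomLift.fac' _ _ _ _ _ _ _ _ _ _ _ ω.property] at h4
  have h5 : (𝟙 Aω.P ≫ Aω.π) ≫ eqToHom (π.w_obj Aω).symm ≫ (π.obj Aω).sec.down =
      Aω.φ ≫ quot R A G := congrArg ULift.down h1
  have h6 : (eqToHom rfl ≫ 𝟙 _ ≫
      eqToHom ((H14Fib.fp_snd_obj ω).symm.trans (π.w_obj ω.obj.snd).symm)) ≫
        (π.obj Aω).sec.down = ptOf ω ≫ g := congrArg ULift.down h4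
  rw [← h5, Category.assoc, Category.assoc, Category.assoc, ← h6]
  simp [Aω]

lemma fibGrpd_BC : FibCat.IsFibGrpd (BC R A G π g).p :=
  H14Fib.fp_fibGrpd (inferInstanceAs (FibCat.IsFibGrpd (Stk.EltObj.forget _)))
    H14Quot.quotSt_fibGrpd (inferInstanceAs (FibCat.IsFibGrpd (Stk.EltObj.forget _)))

/-- A morphism over an equality gives an isomorphism of a fibre. -/
lemma fiber_iso {T : Over (Spec (CommRingCat.of R))} {a b : (BC R A G π g).p.Fiber T}
    (m : a.1 ⟶ b.1) (u : (BC R A G π g).p.obj a.1 ⟶ (BC R A G π g).p.obj b.1)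
    (hm : (BC R A G π g).p.IsHomLift u m) (hu : u = eqToHom (a.2.trans b.2.symm)) :
    Nonempty (a ≅ b) := by
  subst hu
  have := H14Fib.isIso_of_fibGrpd fibGrpd_BC (eqToHom (a.2.trans b.2.symm)) m
  have h1 : (BC R A G π g).p.IsHomLift (𝟙 T) m := by
    refine IsHomLift.of_fac' _ _ _ a.2 b.2 ?_
    rw [← IsHomLift.eq_of_isHomLift (BC R A G π g).p (eqToHom (a.2.trans b.2.symm)) m]
    simp
  exact ⟨⟨⟨m, h1⟩, ⟨CategoryTheory.inv m, inferInstance⟩, Subtype.ext (IsIso.hom_inv_id m),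
    Subtype.ext (IsIso.inv_hom_id m)⟩⟩

include hπ in
/-- Every object over an algebraically closed field is a standard one. -/
lemma exists_obIso {Ω : Type u} [Field Ω] [IsAlgClosed Ω]
    {t : Spec (CommRingCat.of Ω) ⟶ Spec (CommRingCat.of R)}
    (ω : (BC R A G π g).p.Fiber (Over.mk t)) :
    ∃ (x : Over.mk t ⟶ X R A) (h : x ≫ quot R A G = (eqToHom ω.2.symm ≫ ptOf ω.1) ≫ g),
      Nonempty (Functor.Fiber.mk (p := (BC R A G π g).p) (a := ob hπ x _ h) rfl ≅ ω) := by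
  let e : Over.mk t ⟶ ω.1.obj.snd.base :=
    eqToHom ω.2.symm ≫ eqToHom (H14Fib.fp_snd_obj ω.1).symm
  obtain ⟨s, hs⟩ := exists_section le_rfl ω.1.obj.snd e.left
  let σ : Over.mk t ⟶ ω.1.obj.snd.P := Over.homMk s (by
    rw [← Over.w ω.1.obj.snd.π, ← Category.assoc, hs]
    exact Over.w e)
  have hσ : σ ≫ ω.1.obj.snd.π = e := Over.OverMorphism.ext hs
  refine ⟨σ ≫ ω.1.obj.snd.φ, ?_, ?_⟩
  · rw [Category.assoc, compat hπ ω.1, ← Category.assoc, ← Category.assoc σ, hσ]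
    simp [e]
  · obtain ⟨m, hm⟩ := exists_obHom hπ ω.1 σ (eqToHom ω.2.symm) hσ (σ ≫ ω.1.obj.snd.φ) rfl _ rfl
      (by rw [Category.assoc, compat hπ ω.1, ← Category.assoc, ← Category.assoc σ, hσ]; simp [e])
    have := H14Fib.isIso_of_fibGrpd fibGrpd_BC (eqToHom ω.2.symm) m
    exact fiber_iso (a := Functor.Fiber.mk (p := (BC R A G π g).p) (a := ob hπ _ _ _) rfl) (b := ω) m
      (eqToHom ω.2.symm) hm rfl

variable [IsNoetherianRing R] [Algebra.FiniteType R A]

include hπ in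
/-- The base change is bijective on geometric points. -/
theorem geomPtBij_fpFst : AlgSt.GeomPtBij
    (FibCat.fpFst (AlgSt.ofSpMap ((yon (Spec (CommRingCat.of R))).map g)) π) := by
  intro Ω _ _ t
  have hsec : ∀ ω : (BC R A G π g).p.Fiber (Over.mk t),
      AlgSt.fibSec (FibCat.fpFst (AlgSt.ofSpMap ((yon _).map g)) π) ω =
        ULift.up (eqToHom ω.2.symm ≫ ptOf ω.1) := fun ω => rfl
  refine ⟨fun m => ?_, fun a b hab => ?_⟩
  · obtain ⟨x, hx⟩ := exists_point R A G (m.down ≫ g)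
    refine ⟨Functor.Fiber.mk (a := ob hπ x m.down hx) rfl, (hsec _).trans ?_⟩
    exact congrArg ULift.up (Category.id_comp m.down)
  · rw [hsec, hsec] at hab
    obtain ⟨x, hx, ⟨i⟩⟩ := exists_obIso hπ a
    obtain ⟨y, hy, ⟨j⟩⟩ := exists_obIso hπ b
    have e := congrArg ULift.down hab
    change eqToHom a.2.symm ≫ ptOf a.1 = eqToHom b.2.symm ≫ ptOf b.1 at e
    obtain ⟨c₀, rfl⟩ := exists_act R A G x y (hx.trans ((congrArg (· ≫ g) e).trans hy.symm))
    obtain ⟨m, hm⟩ := exists_obHom hπ (ob hπ x _ hx)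
      (lift (x ≫ γpt R A G c₀ ≫ fst (GR R G) (X R A)) (𝟙 (Over.mk t))) (𝟙 (Over.mk t))
      ((lift_snd _ _).trans (Category.id_comp _).symm) _ (act_triv c₀ x)
      (eqToHom b.2.symm ≫ ptOf b.1) ((Category.id_comp _).trans e) hy
    obtain ⟨k⟩ := fiber_iso
      (a := Functor.Fiber.mk (p := (BC R A G π g).p) (a := ob hπ (x ≫ act R A G c₀) _ hy) rfl)
      (b := Functor.Fiber.mk (p := (BC R A G π g).p) (a := ob hπ x _ hx) rfl) m _ hm rfl
    exact ⟨i.symm ≪≫ k.symm ≪≫ j⟩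

variable [IsAffine Y'.left] [Flat g.left]

include hπ in
/-- The base change is a categorical moduli space. -/
theorem isCatModuli_fpFst : AlgSt.IsCatModuli
    (FibCat.fpFst (AlgSt.ofSpMap ((yon (Spec (CommRingCat.of R))).map g)) π) := by
  refine ⟨AlgSp.IsAlgSpace.yon_obj _, fun N hN φ => ?_⟩
  have : IsAffine (specA R A).left := inferInstanceAs (IsAffine (Spec (CommRingCat.of A)))
  have : IsAffine (specInv R A G).left :=
    inferInstanceAs (IsAffine (Spec (CommRingCat.of ↥(ConstAct.inv R A G))))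
  let q := (quot R A G).left
  let X' : Over (Spec (CommRingCat.of R)) := Over.mk (pullback.snd q g.left ≫ Y'.hom)
  let pr₂ : X' ⟶ Y' := Over.homMk (pullback.snd q g.left) rfl
  let pr₁ : X' ⟶ X R A := Over.homMk (pullback.fst q g.left) (by
    change pullback.fst q g.left ≫ (specA R A).hom = pullback.snd q g.left ≫ Y'.hom
    rw [← Over.w (quot R A G), ← Over.w g, ← Category.assoc, ← Category.assoc, pullback.condition])
  have hpr : pr₁ ≫ quot R A G = pr₂ ≫ g := Over.OverMorphism.ext pullback.condition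
  have hσw : ∀ c₀ : G, (act R A G c₀).left ≫ q = q ≫ 𝟙 _ := fun c₀ =>
    (congrArg (fun t => t.left) (act_quot R A G c₀)).trans (Category.comp_id _).symm
  let σ' : G → (X' ⟶ X') := fun c₀ => Over.homMk
    (pullback.map q g.left q g.left (act R A G c₀).left (𝟙 _) (𝟙 _) (hσw c₀).symm (by simp)) (by
      change pullback.map q g.left q g.left _ (𝟙 _) (𝟙 _) _ _ ≫ pullback.snd q g.left ≫ Y'.hom =
        pullback.snd q g.left ≫ Y'.hom
      simp [pullback.map])
  have hq' : IsInvQuot pr₂.left (fun c₀ => (σ' c₀).left) :=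
    (isInvQuot_quot R A G).baseChange g.left
  have : IsAffine X'.left := inferInstanceAs (IsAffine (pullback q g.left))
  let f : (yon _).obj X' ⟶ N :=
    ((J _).uliftYonedaEquiv).symm (H14Stk.secAt φ (ob hπ pr₁ pr₂ hpr))
  have hf : ∀ c₀, (yon _).map (σ' c₀) ≫ f = f := fun c₀ => by
    have e1 : σ' c₀ ≫ pr₁ = pr₁ ≫ act R A G c₀ := Over.OverMorphism.ext (by
      simp [σ', pr₁, pullback.map])
    have e2 : σ' c₀ ≫ pr₂ = pr₂ := Over.OverMorphism.ext (by simp [σ', pr₂, pullback.map])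
    have h' : (pr₁ ≫ act R A G c₀) ≫ quot R A G = pr₂ ≫ g := by
      rw [Category.assoc, act_quot, hpr]
    rw [secAt_ob_nat hπ φ (σ' c₀) pr₁ pr₂ hpr]
    refine Eq.trans ?_ (secAt_ob_act hπ φ c₀ pr₁ pr₂ hpr h').symm
    congr 2
    all_goals simp only [e1, e2]
  obtain ⟨k, hk, hu⟩ := existsUnique_factor pr₂ σ' hq' hN f hf
  refine ⟨k, ⟨H14Stk.isoOfSec fun ω => ?_⟩, fun h ⟨ih⟩ => hu _ ?_⟩
  · let Aω := ω.obj.snd
    suffices key : (yon _).map (ptOf ω) ≫ k = (((J _).uliftYonedaEquiv).symm (H14Stk.secAt φ ω) :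
        (yon _).obj ((BC R A G π g).p.obj ω) ⟶ N) by
      refine Eq.trans ?_ ((congrArg (J _).uliftYonedaEquiv key).trans (Equiv.apply_symm_apply _ _))
      rw [GrothendieckTopology.uliftYonedaEquiv_comp,
        GrothendieckTopology.uliftYonedaEquiv_uliftYoneda_map]
      exact H14Stk.pmap_id _
    refine H14Quot.yon_ext (R := (H14Quot.liftSieve Aω).pullback
      (eqToHom (H14Fib.fp_snd_obj ω).symm)) ((J _).pullback_stable _
        (H14Quot.liftSieve_mem le_rfl Aω)) ?_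
    rintro W u ⟨σ, hσ⟩
    change σ ≫ Aω.π = u ≫ eqToHom _ at hσ
    have hxy : (σ ≫ Aω.φ) ≫ quot R A G = (u ≫ ptOf ω) ≫ g := by
      rw [Category.assoc, compat hπ ω, ← Category.assoc, ← Category.assoc σ, hσ]
      simp [Aω]
    let l : W ⟶ X' := Over.homMk (pullback.lift (σ ≫ Aω.φ).left (u ≫ ptOf ω).left
      (congrArg (fun t => t.left) hxy)) (by
      change pullback.lift _ _ _ ≫ pullback.snd q g.left ≫ Y'.hom = W.hom
      rw [pullback.lift_snd_assoc]
      exact Over.w (u ≫ ptOf ω))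
    have hl₁ : l ≫ pr₁ = σ ≫ Aω.φ := Over.OverMorphism.ext (pullback.lift_fst _ _ _)
    have hl₂ : l ≫ pr₂ = u ≫ ptOf ω := Over.OverMorphism.ext (pullback.lift_snd _ _ _)
    have hR : (yon _).map l ≫ f =
        ((J _).uliftYonedaEquiv).symm (H14Stk.secAt φ (ob hπ (σ ≫ Aω.φ) (u ≫ ptOf ω) hxy)) := by
      rw [secAt_ob_nat hπ φ l pr₁ pr₂ hpr]
      congr 2
      all_goals simp only [hl₁, hl₂]
    rw [secAt_restrict hπ φ ω σ u hσ (σ ≫ Aω.φ) rfl (u ≫ ptOf ω) rfl hxy, ← hR, ← hk,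
      ← Category.assoc ((yon _).map l), ← Functor.map_comp, hl₂, Functor.map_comp, Category.assoc]
  · have e := H14Stk.secAt_eq_of_hom ih.hom (ob hπ pr₁ pr₂ hpr)
    apply (J _).uliftYonedaEquiv.injective
    rw [GrothendieckTopology.uliftYonedaEquiv_comp,
      GrothendieckTopology.uliftYonedaEquiv_uliftYoneda_map]
    refine Eq.trans ?_ ((Equiv.apply_symm_apply _ _).symm)
    exact (H14Stk.pmap_id _).symm.trans e

include hπ in
/-- The base change is a coarse moduli space. -/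
theorem isCoarseModuli_fpFst : AlgSt.IsCoarseModuli
    (FibCat.fpFst (AlgSt.ofSpMap ((yon (Spec (CommRingCat.of R))).map g)) π) :=
  ⟨isCatModuli_fpFst hπ, geomPtBij_fpFst hπ⟩

end Groth.Agent.H14FinQuot
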