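import Groth.Agent.H12AlgSp.EtaleNbhdRadicial
import Groth.Agent.H9Gal.QfhBasics
import Groth.Agent.H12AlgSp.Bootstrap
import Mathlib.AlgebraicGeometry.AlgClosed.Basic
import Mathlib.AlgebraicGeometry.Morphisms.QuasiFinite
import Mathlib.AlgebraicGeometry.Morphisms.FlatMono
import Mathlib.AlgebraicGeometry.Morphisms.Etale
import Mathlib.RingTheory.RingHom.QuasiFinite

/-!
# Etale-local sections of etale maps to finite schemes
-/

set_option autoImplicit false
set_option backward.isDefEq.respectTransparency false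

universe u

open CategoryTheory CategoryTheory.Limits AlgebraicGeometry TopologicalSpace

noncomputable section

namespace Groth.Agent.H14FinQuot

variable {Ω : Type u} [Field Ω] [IsAlgClosed Ω]

local notation "sΩ" => Spec (CommRingCat.of Ω)

/-- Geometric points lift along quasi-finite morphisms through any point of the fibre. -/
lemma exists_point_lift {Z D : Scheme.{u}} (g : Z ⟶ D) [LocallyQuasiFinite g]
    [LocallyOfFiniteType g] (d : sΩ ⟶ D) (z : Z)
    (hz : g z = d (IsLocalRing.closedPoint Ω)) :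
    ∃ c : sΩ ⟶ Z, c ≫ g = d ∧ c (IsLocalRing.closedPoint Ω) = z := by
  obtain ⟨p, hp, -⟩ :=
    Scheme.Pullback.exists_preimage_pullback (f := g) (g := d) z (IsLocalRing.closedPoint Ω) hz
  let f : pullback g d ⟶ sΩ := pullback.snd g d
  have hp' : IsClosed ({p} : Set ↥(pullback g d)) := by
    have hd : _root_.IsDiscrete (Set.univ : Set ↥(pullback g d)) := by
      rw [show (Set.univ : Set ↥(pullback g d)) = f ⁻¹' {f p} from
        (Set.eq_univ_of_forall fun y => Subsingleton.elim (α := ↥sΩ) _ _).symm]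
      exact f.isDiscrete_preimage_singleton (f p)
    have : DiscreteTopology ↥(pullback g d) := isDiscrete_univ_iff.mp hd
    exact isClosed_discrete _
  refine ⟨pointOfClosedPoint f p hp' ≫ pullback.fst g d, ?_, ?_⟩
  · rw [Category.assoc, pullback.condition, ← Category.assoc]
    exact (congrArg (· ≫ d) (pointOfClosedPoint_comp f p hp')).trans (Category.id_comp _)
  · rw [Scheme.Hom.comp_apply, pointOfClosedPoint_apply, hp]

/-- A quasi-finite scheme over an affine one has etale-locally a finite part with one geometric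
point through a given geometric point. -/
lemma exists_radicial_data {W Y : Scheme.{u}} [IsAffine Y] (g : W ⟶ Y) [LocallyQuasiFinite g]
    [LocallyOfFiniteType g] (w : sΩ ⟶ W) :
    ∃ (D C : Scheme.{u}) (_ : IsAffine D) (_ : IsAffine C) (u : D ⟶ Y) (_ : Etale u) (h : C ⟶ D)
      (_ : IsFinite h) (m : C ⟶ W) (_ : Etale m) (c : sΩ ⟶ C),
      m ≫ g = h ≫ u ∧ c ≫ m = w ∧ ∀ c' : sΩ ⟶ C, c' ≫ h = c ≫ h → c' = c := by
  obtain ⟨_, ⟨U, hU, rfl⟩, hw, -⟩ := W.isBasis_affineOpens.exists_subset_of_mem_open
    (Set.mem_univ (w (IsLocalRing.closedPoint Ω))) isOpen_univ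
  let R : Type u := Γ(Y, ⊤)
  let B : Type u := Γ(W, U)
  have e : U ≤ g ⁻¹ᵁ (⊤ : Y.Opens) := le_top
  letI : Algebra R B := (g.appLE ⊤ U e).hom.toAlgebra
  have hft : (g.appLE ⊤ U e).hom.FiniteType :=
    HasRingHomProperty.appLE @LocallyOfFiniteType g ‹_› ⟨⊤, isAffineOpen_top Y⟩ ⟨U, hU⟩ e
  have hqf : (g.appLE ⊤ U e).hom.QuasiFinite :=
    LocallyQuasiFinite.quasiFinite_appLE (f := g) (isAffineOpen_top Y) hU e
  have : Algebra.FiniteType R B := hft
  have : Algebra.QuasiFinite R B := hqf
  let jY : Spec (CommRingCat.of R) ⟶ Y := (isAffineOpen_top Y).fromSpec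
  have : IsIso jY := by
    have : IsOpenImmersion jY := inferInstanceAs (IsOpenImmersion (isAffineOpen_top Y).fromSpec)
    have : Surjective jY := ⟨fun y => (isAffineOpen_top Y).range_fromSpec.ge (Set.mem_univ y)⟩
    exact (isIso_iff_isOpenImmersion_and_surjective jY).2 ⟨‹_›, ‹_›⟩
  let jW : Spec (CommRingCat.of B) ⟶ W := hU.fromSpec
  have : IsOpenImmersion jW := inferInstanceAs (IsOpenImmersion hU.fromSpec)
  have hjW : jW ≫ g = Spec.map (CommRingCat.ofHom (algebraMap R B)) ≫ jY :=
    (IsAffineOpen.SpecMap_appLE_fromSpec g (isAffineOpen_top Y) hU e).symm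
  have hr : Set.range w ⊆ Set.range jW := by
    rintro _ ⟨t, rfl⟩
    rw [Subsingleton.elim t (IsLocalRing.closedPoint Ω)]
    exact hU.range_fromSpec.ge hw
  let w' : sΩ ⟶ Spec (CommRingCat.of B) := IsOpenImmersion.lift jW w hr
  let q : Spec (CommRingCat.of B) := w' (IsLocalRing.closedPoint Ω)
  obtain ⟨R', _, _, _, P, _, C, _, gR, gB, hcomm, hgR, hgB, ⟨Q, hQ, hQq, hQP⟩, huniq⟩ :=
    Groth.Agent.H12AlgSp.exists_radicial_nbhd (R := R) (B := B) (PrimeSpectrum.asIdeal q)
  let mB : Spec (CommRingCat.of C) ⟶ Spec (CommRingCat.of B) := Spec.map (CommRingCat.ofHom gB)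
  have : Etale mB := HasRingHomProperty.Spec_iff.mpr hgB
  have : LocallyQuasiFinite mB := Groth.Agent.H12AlgSp.lqf_of_etale mB
  let u₀ : Spec (CommRingCat.of R') ⟶ Spec (CommRingCat.of R) :=
    Spec.map (CommRingCat.ofHom (algebraMap R R'))
  have : Etale u₀ := HasRingHomProperty.Spec_iff.mpr (RingHom.etale_algebraMap.2 ‹_›)
  let h : Spec (CommRingCat.of C) ⟶ Spec (CommRingCat.of R') := Spec.map (CommRingCat.ofHom gR)
  have hh : IsFinite h := (IsFinite.SpecMap_iff (CommRingCat.ofHom gR)).2 hgR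
  obtain ⟨c, hc, hcQ⟩ := exists_point_lift mB w'
    (⟨Q, hQ⟩ : PrimeSpectrum C) (PrimeSpectrum.ext hQq)
  refine ⟨Spec (CommRingCat.of R'), Spec (CommRingCat.of C), inferInstance, inferInstance, u₀ ≫ jY,
    inferInstance, h, hh, mB ≫ jW, inferInstance, c, ?_, ?_, fun c' e' => ?_⟩
  · rw [Category.assoc, hjW, ← Category.assoc, ← Category.assoc, ← Spec.map_comp, ← Spec.map_comp,
      ← CommRingCat.ofHom_comp, ← CommRingCat.ofHom_comp, hcomm]
  · rw [← Category.assoc, hc, IsOpenImmersion.lift_fac]
  · obtain ⟨a, rfl⟩ := Spec.map_surjective c'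
    obtain ⟨b, rfl⟩ := Spec.map_surjective c
    rw [← Spec.map_comp, ← Spec.map_comp] at e'
    have hab : a.hom.comp gR = b.hom.comp gR := congrArg (fun t => t.hom) (Spec.map_injective e')
    have hker : RingHom.ker b.hom = Q := by
      have h1 : PrimeSpectrum.comap b.hom (IsLocalRing.closedPoint Ω) = ⟨Q, hQ⟩ := hcQ
      have h2 := congrArg PrimeSpectrum.asIdeal h1
      change Ideal.comap b.hom (IsLocalRing.maximalIdeal Ω) = Q at h2
      rwa [IsLocalRing.maximalIdeal_eq_bot, ← RingHom.ker_eq_comap_bot] at h2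
    have := huniq Ω a.hom b.hom hab (by
      rw [hab, ← RingHom.comap_ker, hker, hQP])
    exact congrArg Spec.map (CommRingCat.hom_ext this)

/-- Finitely many pointed etale neighbourhoods have a common refinement. -/
lemma exists_common_nbhd {Y : Scheme.{u}} [IsAffine Y] (yb : sΩ ⟶ Y) {ι : Type u} (s : Finset ι)
    (D : ι → Scheme.{u}) [∀ i, IsAffine (D i)] (u : ∀ i, D i ⟶ Y) [∀ i, Etale (u i)]
    (d : ∀ i, sΩ ⟶ D i) (hd : ∀ i, d i ≫ u i = yb) :
    ∃ (E : Scheme.{u}) (_ : IsAffine E) (e : E ⟶ Y) (_ : Etale e) (de : sΩ ⟶ E), de ≫ e = yb ∧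
      ∀ i ∈ s, ∃ t : E ⟶ D i, t ≫ u i = e ∧ de ≫ t = d i := by
  classical
  induction s using Finset.induction_on with
  | empty =>
    exact ⟨Y, inferInstance, 𝟙 Y, inferInstance, yb, Category.comp_id _,
      fun i hi => absurd hi (by simp)⟩
  | @insert j s _ ih =>
    obtain ⟨E, _, e, _, de, hde, ht⟩ := ih
    refine ⟨pullback e (u j), inferInstance, pullback.fst e (u j) ≫ e, inferInstance,
      pullback.lift de (d j) (hde.trans (hd j).symm), by rw [pullback.lift_fst_assoc, hde],
      fun i hi => ?_⟩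
    rcases Finset.mem_insert.1 hi with rfl | hi
    · exact ⟨pullback.snd e (u i), pullback.condition.symm, pullback.lift_snd _ _ _⟩
    · obtain ⟨t, h1, h2⟩ := ht i hi
      exact ⟨pullback.fst e (u j) ≫ t, by rw [Category.assoc, h1],
        by rw [pullback.lift_fst_assoc, h2]⟩

/-- A finite etale map with one geometric point over each point of a fibre is an isomorphism near
that fibre. -/
lemma exists_nbhd_isIso {W X D : Scheme.{u}} [IsAffine D] (m : W ⟶ X) [IsFinite m] [Etale m]
    (p : X ⟶ D) [IsFinite p] (d : sΩ ⟶ D)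
    (hsurj : ∀ x : sΩ ⟶ X, x ≫ p = d → ∃ w, w ≫ m = x)
    (hinj : ∀ w w' : sΩ ⟶ W, w ≫ m = w' ≫ m → w ≫ m ≫ p = d → w = w') :
    ∃ (E : Scheme.{u}) (_ : IsAffine E) (j : E ⟶ D) (_ : IsOpenImmersion j) (de : sΩ ⟶ E),
      de ≫ j = d ∧
      IsIso (pullback.snd m (pullback.fst p j) : pullback m (pullback.fst p j) ⟶ pullback p j) := by
  let δ := pullback.diagonal m
  let bad₁ : Set X := (Set.range m)ᶜ
  let bad₂ : Set ↥(pullback m m) := (Set.range δ)ᶜ
  let q : pullback m m ⟶ D := pullback.fst m m ≫ m ≫ p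
  have hb₁ : IsClosed bad₁ := m.isOpenMap.isOpen_range.isClosed_compl
  have hb₂ : IsClosed bad₂ := δ.isOpenEmbedding.isOpen_range.isClosed_compl
  let pt := IsLocalRing.closedPoint Ω
  let O : Set D := (p '' bad₁)ᶜ ∩ (q '' bad₂)ᶜ
  have hO : IsOpen O :=
    (p.isClosedMap _ hb₁).isOpen_compl.inter (q.isClosedMap _ hb₂).isOpen_compl
  have hdO : d pt ∈ O := by
    constructor
    · rintro ⟨z, hz, e⟩
      obtain ⟨x, hx, rfl⟩ := exists_point_lift p d z e
      obtain ⟨w, rfl⟩ := hsurj x hx
      exact hz ⟨w pt, (Scheme.Hom.comp_apply w m pt).symm⟩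
    · rintro ⟨z, hz, e⟩
      obtain ⟨t, ht, rfl⟩ := exists_point_lift q d z e
      have hw := hinj (t ≫ pullback.fst m m) (t ≫ pullback.snd m m)
        (by rw [Category.assoc, Category.assoc, pullback.condition])
        (by rw [Category.assoc]; exact ht)
      have htd : t = (t ≫ pullback.fst m m) ≫ δ := by
        apply pullback.hom_ext
        · rw [Category.assoc, pullback.diagonal_fst, Category.comp_id]
        · rw [Category.assoc, pullback.diagonal_snd, Category.comp_id]
          exact hw.symm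
      exact hz ⟨(t ≫ pullback.fst m m) pt, by
        rw [← Scheme.Hom.comp_apply]; exact (congrArg (fun k : sΩ ⟶ _ => k pt) htd).symm⟩
  obtain ⟨_, ⟨V, hV, rfl⟩, hdV, hVO⟩ := D.isBasis_affineOpens.exists_subset_of_mem_open hdO hO
  let j := Scheme.Opens.ι V
  have : IsAffine (Scheme.Opens.toScheme V) := hV
  have hr : Set.range d ⊆ Set.range j := by
    rintro _ ⟨t, rfl⟩
    rw [Subsingleton.elim t pt, Scheme.Opens.range_ι]
    exact hdV
  refine ⟨_, inferInstance, j, inferInstance, IsOpenImmersion.lift j d hr,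
    IsOpenImmersion.lift_fac _ _ _, ?_⟩
  let m' := pullback.snd m (pullback.fst p j)
  have hE : ∀ z : ↥(pullback p j), p (pullback.fst p j z) ∈ O := fun z => hVO (by
    rw [← Scheme.Hom.comp_apply, pullback.condition, Scheme.Hom.comp_apply]
    exact (Scheme.Opens.range_ι V).le ⟨_, rfl⟩)
  have : Surjective m' := ⟨fun z => by
    have hz : pullback.fst p j z ∈ Set.range m := by
      by_contra hc
      exact (hE z).1 ⟨_, hc, rfl⟩
    obtain ⟨w, hw⟩ := hz
    obtain ⟨a, -, ha⟩ := Scheme.Pullback.exists_preimage_pullback w z hw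
    exact ⟨a, ha⟩⟩
  have : Mono m' := by
    refine ⟨fun {T} a b e => pullback.hom_ext ?_ e⟩
    let k := pullback.fst m (pullback.fst p j)
    have hk : (a ≫ k) ≫ m = (b ≫ k) ≫ m := by
      rw [Category.assoc, Category.assoc, pullback.condition, ← Category.assoc, ← Category.assoc, e]
    let l := pullback.lift (a ≫ k) (b ≫ k) hk
    have hl : Set.range l ⊆ Set.range δ := by
      rintro _ ⟨t, rfl⟩
      by_contra hc
      refine (hE (m' (a t))).2 ⟨l t, hc, ?_⟩
      have : l ≫ q = (a ≫ m') ≫ pullback.fst p j ≫ p := by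
        simp only [l, q, pullback.lift_fst_assoc, Category.assoc]
        simp only [k, m', pullback.condition_assoc]
      rw [← Scheme.Hom.comp_apply, this]
      simp only [Scheme.Hom.comp_apply]
    have hf := IsOpenImmersion.lift_fac δ l hl
    have h1 : a ≫ k = IsOpenImmersion.lift δ l hl := by
      have := hf =≫ pullback.fst m m
      rw [Category.assoc, pullback.diagonal_fst, Category.comp_id, pullback.lift_fst] at this
      exact this.symm
    have h2 : b ≫ k = IsOpenImmersion.lift δ l hl := by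
      have := hf =≫ pullback.snd m m
      rw [Category.assoc, pullback.diagonal_snd, Category.comp_id, pullback.lift_snd] at this
      exact this.symm
    exact h1.trans h2.symm
  have : IsOpenImmersion m' := IsOpenImmersion.of_flat_of_mono m'
  exact (isIso_iff_isOpenImmersion_and_surjective m').2 ⟨‹_›, ‹_›⟩

/-- Etale-locally on the base, an etale map to a finite scheme has a section through prescribed
lifts of the geometric points of a fibre. -/
theorem exists_nbhd_section {X Y W : Scheme.{u}} [IsAffine X] [IsAffine Y] (p : X ⟶ Y) [IsFinite p]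
    (r : W ⟶ X) [Etale r] (yb : sΩ ⟶ Y) [Finite {x : sΩ ⟶ X // x ≫ p = yb}]
    (w : {x : sΩ ⟶ X // x ≫ p = yb} → (sΩ ⟶ W)) (hw : ∀ x, w x ≫ r = x.1) :
    ∃ (E : Scheme.{u}) (_ : IsAffine E) (e : E ⟶ Y) (_ : Etale e) (de : sΩ ⟶ E) (hde : de ≫ e = yb)
      (s : pullback p e ⟶ W), s ≫ r = pullback.fst p e ∧
      ∀ x : {x : sΩ ⟶ X // x ≫ p = yb},
        pullback.lift x.1 de (x.2.trans hde.symm) ≫ s = w x := by
  classical
  have := Fintype.ofFinite {x : sΩ ⟶ X // x ≫ p = yb}
  let F : Type u := {x : sΩ ⟶ X // x ≫ p = yb}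
  have : LocallyQuasiFinite r := Groth.Agent.H12AlgSp.lqf_of_etale r
  choose D C hD hC u hu h hh mW hmW c hm hcw hcu using
    fun x : F => exists_radicial_data (r ≫ p) (w x)
  have hd : ∀ x, (c x ≫ h x) ≫ u x = yb := fun x => by
    rw [Category.assoc, ← hm, ← Category.assoc, hcw, ← Category.assoc, hw, x.2]
  obtain ⟨E, _, e, _, de, hde, ht⟩ :=
    exists_common_nbhd yb Finset.univ D u (fun x => c x ≫ h x) hd
  choose t ht1 ht2 using fun x => ht x (Finset.mem_univ x)
  let Z : F → Scheme.{u} := fun x => pullback (h x) (t x)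
  let pX := pullback.snd p e
  have hcond : ∀ x, (pullback.fst (h x) (t x) ≫ mW x ≫ r) ≫ p = pullback.snd (h x) (t x) ≫ e := by
    intro x
    rw [Category.assoc, Category.assoc, hm, ← Category.assoc, pullback.condition, Category.assoc, ht1]
  let g : ∀ x, Z x ⟶ pullback p e := fun x =>
    pullback.lift (pullback.fst (h x) (t x) ≫ mW x ≫ r) (pullback.snd _ _) (hcond x)
  have hg1 : ∀ x, IsFinite (g x) := fun x => by
    have : IsFinite (g x ≫ pX) := by
      rw [pullback.lift_snd]
      exact MorphismProperty.pullback_snd _ _ (hh x)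
    exact IsFinite.of_comp (g x) pX
  have hg2 : ∀ x, Etale (g x) := fun x => by
    let a : C x ⟶ X := mW x ≫ r
    let l : C x ⟶ pullback p (u x) := pullback.lift a (h x) (by simp [a, hm])
    have : Etale (l ≫ pullback.fst p (u x)) := by
      rw [pullback.lift_fst]; infer_instance
    have : Etale l := Etale.of_comp l (pullback.fst p (u x))
    let k : pullback p e ⟶ pullback p (u x) :=
      pullback.lift (pullback.fst p e) (pX ≫ t x) (by rw [Category.assoc, ht1]; exact pullback.condition)
    have sq₀ : IsPullback k pX (pullback.snd p (u x)) (t x) := by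
      refine IsPullback.of_right ?_ (pullback.lift_snd _ _ _) (IsPullback.of_hasPullback p (u x))
      rw [pullback.lift_fst, ht1]
      exact IsPullback.of_hasPullback p e
    have sq₁ : IsPullback (pullback.fst (h x) (t x)) (g x) l k := by
      refine IsPullback.of_bot ?_ ?_ sq₀
      · rw [pullback.lift_snd, pullback.lift_snd]
        exact IsPullback.of_hasPullback (h x) (t x)
      · apply pullback.hom_ext
        · simp [g, k, l, a, pullback.lift_fst, pullback.lift_fst_assoc]
        · simp [g, k, l, pX, pullback.condition]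
    exact MorphismProperty.of_isPullback sq₁ ‹_›
  let m : (∐ Z) ⟶ pullback p e := Sigma.desc g
  have : Etale m := IsZariskiLocalAtSource.sigmaDesc hg2
  have : IsFinite m := H9Gal.QfhBasics.isFinite_sigmaDesc F Z g hg1
  let z : ∀ x, sΩ ⟶ Z x := fun x => pullback.lift (c x) de (ht2 x).symm
  have hz : ∀ x, z x ≫ g x = pullback.lift x.1 de (x.2.trans hde.symm) := fun x => by
    apply pullback.hom_ext
    · simp only [g, z, Category.assoc, pullback.lift_fst, pullback.lift_fst_assoc]
      rw [← Category.assoc, hcw, hw]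
    · simp only [g, z, Category.assoc, pullback.lift_snd]
  have hpt : ∀ a : sΩ ⟶ ∐ Z, a ≫ m ≫ pX = de → ∃ x, a = z x ≫ Sigma.ι Z x := by
    intro a ha
    obtain ⟨x, b, hb⟩ := (sigmaOpenCover Z).exists_eq (a (IsLocalRing.closedPoint Ω))
    have hr : Set.range a ⊆ Set.range (Sigma.ι Z x) := by
      rintro _ ⟨s, rfl⟩
      rw [Subsingleton.elim s (IsLocalRing.closedPoint Ω)]
      exact ⟨b, hb⟩
    refine ⟨x, ?_⟩
    obtain ⟨a', rfl⟩ : ∃ a', a' ≫ Sigma.ι Z x = a :=
      ⟨IsOpenImmersion.lift (Sigma.ι Z x) a hr, IsOpenImmersion.lift_fac _ _ _⟩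
    congr 1
    have h2 : a' ≫ pullback.snd (h x) (t x) = de := by
      rw [← ha, Category.assoc, Sigma.ι_desc_assoc, pullback.lift_snd]
    apply pullback.hom_ext
    · rw [pullback.lift_fst]
      apply hcu x
      rw [Category.assoc, pullback.condition, ← Category.assoc, h2, ht2]
    · rw [pullback.lift_snd, h2]
  obtain ⟨E', _, j, _, de', hj, hiso⟩ := exists_nbhd_isIso m pX de
    (fun x hx => ⟨z ⟨x ≫ pullback.fst p e, by
        rw [Category.assoc, pullback.condition, ← Category.assoc, hx, hde]⟩ ≫ Sigma.ι Z _, by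
      rw [Category.assoc, Sigma.ι_desc, hz]
      exact (pullback.hom_ext (pullback.lift_fst _ _ _).symm
        ((hx).trans (pullback.lift_snd _ _ _).symm)).symm⟩)
    (fun a a' e₁ e₂ => by
      obtain ⟨x, rfl⟩ := hpt a e₂
      obtain ⟨x', rfl⟩ := hpt a' (by rw [← Category.assoc, ← e₁, Category.assoc, e₂])
      simp only [Category.assoc, m, Sigma.ι_desc, hz] at e₁
      have := congrArg (fun k => k ≫ pullback.fst p e) e₁
      simp only [pullback.lift_fst] at this
      rw [Subtype.ext this])
  let v : pullback p (j ≫ e) ⟶ pullback pX j :=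
    (pullbackLeftPullbackSndIso p e j).inv
  let σ := inv (pullback.snd m (pullback.fst pX j))
  refine ⟨E', inferInstance, j ≫ e, inferInstance, de', by rw [← Category.assoc, hj, hde],
    v ≫ σ ≫ pullback.fst m (pullback.fst pX j) ≫ Sigma.desc (fun x => pullback.fst (h x) (t x) ≫ mW x),
    ?_, fun x => ?_⟩
  · have : Sigma.desc (fun x => pullback.fst (h x) (t x) ≫ mW x) ≫ r = m ≫ pullback.fst p e := by
      apply Sigma.hom_ext
      intro x
      simp only [m, Sigma.ι_desc_assoc, g, pullback.lift_fst, Category.assoc]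
    simp only [Category.assoc]
    rw [this, ← Category.assoc (pullback.fst m (pullback.fst pX j)), pullback.condition]
    simp only [σ, Category.assoc, IsIso.inv_hom_id_assoc]
    simp [v, pX]
  · let a : sΩ ⟶ pullback pX j :=
      pullback.lift (pullback.lift x.1 de (x.2.trans hde.symm)) de' (by rw [pullback.lift_snd, hj])
    let b : sΩ ⟶ pullback m (pullback.fst pX j) :=
      pullback.lift (z x ≫ Sigma.ι Z x) a (by
        rw [Category.assoc, Sigma.ι_desc, hz, pullback.lift_fst])
    have e₁ : pullback.lift x.1 de' (x.2.trans (by rw [← Category.assoc, hj, hde])) ≫ v = a := by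
      apply pullback.hom_ext
      · apply pullback.hom_ext
        · simp [v, a, pX]
        · simp [v, a, pX, hj]
      · simp [v, a, pX]
    have e₂ : a ≫ σ = b := by
      rw [IsIso.comp_inv_eq]
      exact (pullback.lift_snd _ _ _).symm
    rw [← Category.assoc, e₁, ← Category.assoc, e₂, ← Category.assoc, pullback.lift_fst,
      Category.assoc, Sigma.ι_desc, ← Category.assoc, pullback.lift_fst, hcw]

end Groth.Agent.H14FinQuot
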