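import Groth.Agent.H14FinQuot.FlatBC
import Groth.Agent.H14QCoh.UnitGlue
import Groth.Agent.H13AlgSp.MonoIso
import Groth.Agent.H14Quot.Torsor

/-!
# The functions on `Spec A^G` are the functions on `[Spec A/G]`
-/

set_option autoImplicit false
set_option backward.isDefEq.respectTransparency false
set_option backward.isDefEq.respectTransparency.types false

universe u

open CategoryTheory CategoryTheory.Limits MonoidalCategory CartesianMonoidalCategory MonObj GrpObj
open AlgebraicGeometry Opposite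
open AlgSp (yon J)

noncomputable section

namespace Groth.Agent.H14FinQuot

open ConstAct

variable (R : Type u) [CommRing R] (A : Type u) [CommRing A] [Algebra R A]
variable (G : Type u) [Group G] [Fintype G] [DecidableEq G] [MulSemiringAction G A]
  [SMulCommClass G R A]

omit [MulSemiringAction G A] [SMulCommClass G R A] in
lemma flat_GR : Flat (GR R G).hom := by
  change Flat (Spec.map _)
  rw [HasRingHomProperty.Spec_iff (P := @Flat)]
  exact RingHom.flat_algebraMap_iff.2 inferInstance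

variable {R A G}

/-- Functions are detected on torsors. -/
lemma appTop_injective_π (ξ : (quotSt R A G Scheme.fppfPrecoverage).obj) :
    Function.Injective ξ.π.left.appTop := by
  have := H14Quot.torsor_prop @Surjective le_rfl ξ
    (H14Quot.surjective_group (η : 𝟙_ (Over (Spec (CommRingCat.of R))) ⟶ GR R G))
  have := H14Quot.torsor_prop @Flat le_rfl ξ (flat_GR R G)
  exact H13AlgSp.MonoIso.appTop_injective_of_flat_surjective _

variable (π : quotSt R A G Scheme.fppfPrecoverage ⥤ᵇ AlgSt.ofSch (specInv R A G))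
  (hπ : BasedFunctor.comp
      (AlgSt.quotMap Scheme.fppfPrecoverage (GR R G) (gaction R A G)) π =
    AlgSt.ofSpMap ((yon (Spec (CommRingCat.of R))).map (quot R A G)))

variable {E : AlgSp.EtOver ((yon (Spec (CommRingCat.of R))).obj (specInv R A G))}
  {e : E.obj.left ⟶ specInv R A G} (he : (yon _).map e = E.obj.hom)

include he in
lemma etaOf_sec : (StMod.etaOf E).sec = ULift.up e := by
  change (J _).uliftYonedaEquiv E.obj.hom = _
  rw [← he]
  exact GrothendieckTopology.uliftYonedaEquiv_uliftYoneda_map _ _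

include hπ in
lemma obj_triv {W : Over (Spec (CommRingCat.of R))} (x : W ⟶ X R A) :
    π.obj (H14Quot.triv Scheme.fppfPrecoverage (GR R G) (gaction R A G) x) =
      (⟨W, ULift.up (x ≫ quot R A G)⟩ : Stk.EltObj _) :=
  congrArg (fun F => F.obj ((AlgSt.ofOverCat (X R A)).obj (Over.mk x))) hπ

include hπ he in
/-- The morphism to `E` of a trivial torsor. -/
lemma exists_hom_eta {W : Over (Spec (CommRingCat.of R))} (x : W ⟶ X R A) (y : W ⟶ E.obj.left)
    (h : x ≫ quot R A G = y ≫ e) :
    ∃ α : π.obj (H14Quot.triv Scheme.fppfPrecoverage (GR R G) (gaction R A G) x) ⟶ StMod.etaOf E,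
      α.hom = eqToHom (π.w_obj _) ≫ y := by
  let e₀ := eqToHom (obj_triv π hπ x)
  let b : (⟨W, ULift.up (x ≫ quot R A G)⟩ : Stk.EltObj _) ⟶ StMod.etaOf E := ⟨y, by
    rw [etaOf_sec he]
    exact (congrArg ULift.up h).symm⟩
  refine ⟨e₀ ≫ b, ?_⟩
  change e₀.hom ≫ y = _
  rw [eltHom_eqToHom]

/-- The chosen morphism to `E`. -/
def homEta {W : Over (Spec (CommRingCat.of R))} (x : W ⟶ X R A) (y : W ⟶ E.obj.left)
    (h : x ≫ quot R A G = y ≫ e) :
    π.obj (H14Quot.triv Scheme.fppfPrecoverage (GR R G) (gaction R A G) x) ⟶ StMod.etaOf E :=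
  (exists_hom_eta π hπ he x y h).choose

lemma baseOver_homEta {W : Over (Spec (CommRingCat.of R))} (x : W ⟶ X R A) (y : W ⟶ E.obj.left)
    (h : x ≫ quot R A G = y ≫ e) :
    StMod.baseOver π _ (homEta π hπ he x y h) = y := by
  change eqToHom _ ≫ (homEta π hπ he x y h).hom = y
  rw [show (homEta π hπ he x y h).hom = _ from (exists_hom_eta π hπ he x y h).choose_spec]
  simp

/-- The value of a compatible family at a standard object. -/
def valAt (n : StMod.Mod.RelSect π (StMod.O _) (StMod.etaOf E))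
    {W : Over (Spec (CommRingCat.of R))} (x : W ⟶ X R A) (y : W ⟶ E.obj.left)
    (h : x ≫ quot R A G = y ≫ e) : Γ(W.left, ⊤) :=
  n.1 (H14Quot.triv Scheme.fppfPrecoverage (GR R G) (gaction R A G) x) (homEta π hπ he x y h)

/-- Restriction of a compatible family along a section of a torsor. -/
lemma val_restrict (n : StMod.Mod.RelSect π (StMod.O _) (StMod.etaOf E))
    (ξ : (quotSt R A G Scheme.fppfPrecoverage).obj) (α : π.obj ξ ⟶ StMod.etaOf E)
    {W : Over (Spec (CommRingCat.of R))} (σ : W ⟶ ξ.P) (u : W ⟶ ξ.base) (hu : σ ≫ ξ.π = u)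
    (x : W ⟶ X R A) (hx : σ ≫ ξ.φ = x) (y : W ⟶ E.obj.left)
    (hy : u ≫ StMod.baseOver π ξ α = y) (h : x ≫ quot R A G = y ≫ e) :
    u.left.appTop (n.1 ξ α) = valAt π hπ he n x y h := by
  subst hu hy
  let m := H14Quot.homOfSec (A := ξ) σ hx
  have e1 : π.map m ≫ α = homEta π hπ he x _ h := by
    apply Stk.EltObj.hom_ext
    have h2 : (π.map m).hom = eqToHom (π.w_obj _) ≫ m.base ≫ eqToHom (π.w_obj ξ).symm :=
      Functor.congr_hom π.w m
    change (π.map m).hom ≫ α.hom = (homEta π hπ he x _ h).hom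
    rw [show (homEta π hπ he x _ h).hom = _ from (exists_hom_eta π hπ he x _ h).choose_spec, h2]
    simp [StMod.baseOver, m, H14Quot.homOfSec]
  have h3 := n.2 m α
  rw [e1] at h3
  exact h3

variable [IsNoetherianRing R] [Algebra.FiniteType R A] [IsAffine E.obj.left.left] [Flat e.left]

include hπ he in
/-- The unit is bijective at an affine chart. -/
theorem bijective_unitSect : Function.Bijective (StMod.unitSect π (StMod.etaOf E)) := by
  have : IsAffine (specA R A).left := inferInstanceAs (IsAffine (Spec (CommRingCat.of A)))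
  have : IsAffine (specInv R A G).left :=
    inferInstanceAs (IsAffine (Spec (CommRingCat.of ↥(ConstAct.inv R A G))))
  let Y' := E.obj.left
  let q := (quot R A G).left
  let X' : Over (Spec (CommRingCat.of R)) := Over.mk (pullback.snd q e.left ≫ Y'.hom)
  let pr₂ : X' ⟶ Y' := Over.homMk (pullback.snd q e.left) rfl
  let pr₁ : X' ⟶ X R A := Over.homMk (pullback.fst q e.left) (by
    change pullback.fst q e.left ≫ (specA R A).hom = pullback.snd q e.left ≫ Y'.hom
    rw [← Over.w (quot R A G), ← Over.w e, ← Category.assoc, ← Category.assoc, pullback.condition])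
  have hpr : pr₁ ≫ quot R A G = pr₂ ≫ e := Over.OverMorphism.ext pullback.condition
  have hσw : ∀ c₀ : G, (act R A G c₀).left ≫ q = q ≫ 𝟙 _ := fun c₀ =>
    (congrArg (fun t => t.left) (act_quot R A G c₀)).trans (Category.comp_id _).symm
  let σ' : G → (X' ⟶ X') := fun c₀ => Over.homMk
    (pullback.map q e.left q e.left (act R A G c₀).left (𝟙 _) (𝟙 _) (hσw c₀).symm (by simp)) (by
      change pullback.map q e.left q e.left _ (𝟙 _) (𝟙 _) _ _ ≫ pullback.snd q e.left ≫ Y'.hom =
        pullback.snd q e.left ≫ Y'.hom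
      simp [pullback.map])
  have hq' : IsInvQuot pr₂.left (fun c₀ => (σ' c₀).left) :=
    (isInvQuot_quot R A G).baseChange e.left
  refine ⟨fun r r' hr => hq'.inj ?_, fun n => ?_⟩
  · have h1 := congrArg (fun s : StMod.Mod.RelSect π (StMod.O _) (StMod.etaOf E) =>
      s.1 _ (homEta π hπ he pr₁ pr₂ hpr)) hr
    rw [StMod.unitSect_val, StMod.unitSect_val, baseOver_homEta] at h1
    exact h1
  · let a := valAt π hπ he n pr₁ pr₂ hpr
    let ξ₁ := H14Quot.triv Scheme.fppfPrecoverage (GR R G) (gaction R A G) pr₁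
    let α₁ := homEta π hπ he pr₁ pr₂ hpr
    have hα₁ : StMod.baseOver π ξ₁ α₁ = pr₂ := baseOver_homEta π hπ he pr₁ pr₂ hpr
    have hnat : ∀ {W : Over (Spec (CommRingCat.of R))} (u : W ⟶ X') (x : W ⟶ X R A)
        (y : W ⟶ E.obj.left) (h : x ≫ quot R A G = y ≫ e), u ≫ pr₁ = x → u ≫ pr₂ = y →
        u.left.appTop a = valAt π hπ he n x y h := fun {W} u x y h h1 h2 =>
      val_restrict π hπ he n ξ₁ α₁
        (u ≫ H14Quot.secOfHom (𝟙 ξ₁)) u
        ((Category.assoc _ _ _).trans ((congrArg (u ≫ ·) (H14Quot.secOfHom_π (𝟙 ξ₁))).trans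
          (Category.comp_id u)))
        x ((Category.assoc _ _ _).trans ((congrArg (u ≫ ·) (H14Quot.secOfHom_φ (𝟙 ξ₁))).trans h1))
        y (by rw [hα₁]; exact h2) h
    obtain ⟨r, hr⟩ := hq'.range a fun c₀ => by
      have e1 : σ' c₀ ≫ pr₁ = pr₁ ≫ act R A G c₀ := Over.OverMorphism.ext (by
        simp [σ', pr₁, pullback.map])
      have e2 : σ' c₀ ≫ pr₂ = pr₂ := Over.OverMorphism.ext (by simp [σ', pr₂, pullback.map])
      have h' : (pr₁ ≫ act R A G c₀) ≫ quot R A G = pr₂ ≫ e := by
        rw [Category.assoc, act_quot, hpr]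
      rw [hnat (σ' c₀) _ _ h' e1 e2]
      have h3 := val_restrict π hπ he n ξ₁ α₁
        (lift (pr₁ ≫ γpt R A G c₀ ≫ fst (GR R G) (X R A)) (𝟙 X')) (𝟙 X') (lift_snd _ _)
        (pr₁ ≫ act R A G c₀) (act_triv c₀ pr₁) pr₂ (by rw [hα₁]; exact Category.id_comp _) h'
      exact h3.symm
    refine ⟨r, StMod.Mod.RelSect.ext _ _ _ fun ξ α => ?_⟩
    let y := StMod.baseOver π ξ α
    have hc : ξ.φ ≫ quot R A G = (ξ.π ≫ y) ≫ e := by
      let m := H14Quot.homOfSec (A := ξ) (𝟙 ξ.P) (Category.id_comp ξ.φ)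
      have h1 := H14Stk.secAt_natural π m
      rw [secAt_of_obj_eq π (H14Quot.triv Scheme.fppfPrecoverage (GR R G) (gaction R A G) ξ.φ)
        (ULift.up (ξ.φ ≫ quot R A G)) (obj_triv π hπ ξ.φ)] at h1
      have h4 := α.map_sec
      rw [etaOf_sec he] at h4
      have h5 : (𝟙 ξ.P ≫ ξ.π) ≫ eqToHom (π.w_obj ξ).symm ≫ (π.obj ξ).sec.down =
          ξ.φ ≫ quot R A G := congrArg ULift.down h1
      have h6 : α.hom ≫ e = (π.obj ξ).sec.down := congrArg ULift.down h4
      rw [← h5, ← h6]
      simp [y, StMod.baseOver]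
    let l : ξ.P ⟶ X' := Over.homMk (pullback.lift ξ.φ.left (ξ.π ≫ y).left
      (congrArg (fun t => t.left) hc)) (by
      change pullback.lift _ _ _ ≫ pullback.snd q e.left ≫ Y'.hom = ξ.P.hom
      rw [pullback.lift_snd_assoc]
      exact Over.w (ξ.π ≫ y))
    have hl₁ : l ≫ pr₁ = ξ.φ := Over.OverMorphism.ext (pullback.lift_fst _ _ _)
    have hl₂ : l ≫ pr₂ = ξ.π ≫ y := Over.OverMorphism.ext (pullback.lift_snd _ _ _)
    apply appTop_injective_π ξ
    rw [val_restrict π hπ he n ξ α (𝟙 ξ.P) ξ.π (Category.id_comp _) ξ.φ (Category.id_comp _)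
      (ξ.π ≫ y) rfl hc, ← hnat l ξ.φ (ξ.π ≫ y) hc hl₁ hl₂, StMod.unitSect_val, ← hr]
    change (y.left.appTop ≫ ξ.π.left.appTop) r = (pr₂.left.appTop ≫ l.left.appTop) r
    rw [← Scheme.Hom.comp_appTop, ← Scheme.Hom.comp_appTop, ← Over.comp_left, ← Over.comp_left, hl₂]
    rfl

end Groth.Agent.H14FinQuot
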