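import Groth.Agent.H14FinQuot.FlatBC
import Groth.Agent.H14Quot.Etale
import Groth.Agent.H14Quot.Torsor
import Groth.Agent.H14Quot.QuotDiag
import Groth.Agent.H14AlgSt.PointsMor
import Mathlib.RingTheory.Etale.Pi

/-!
# `[Spec A/G] ⟶ Spec A^G` is a universal homeomorphism
-/

set_option autoImplicit false
set_option backward.isDefEq.respectTransparency false
set_option backward.isDefEq.respectTransparency.types false

universe u v w

open CategoryTheory CategoryTheory.Limits MonoidalCategory CartesianMonoidalCategory MonObj GrpObj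
open AlgebraicGeometry Opposite
open AlgSp (yon J)

noncomputable section

namespace Groth.Agent.H14FinQuot

lemma elt_eq {C : Type u} [Category.{v} C] {P : Cᵒᵖ ⥤ Type w} (a : Stk.EltObj P) {B : C}
    (hb : a.base = B) :
    a = ⟨B, P.map (eqToHom hb.symm).op a.sec⟩ := by
  subst hb
  obtain ⟨b, s⟩ := a
  simp

open ConstAct

section

variable (R : Type u) [CommRing R] (A : Type u) [CommRing A] [Algebra R A]
variable (G : Type u) [Group G] [Fintype G] [DecidableEq G] [MulSemiringAction G A]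
  [SMulCommClass G R A]

omit [MulSemiringAction G A] [SMulCommClass G R A] in
lemma etale_GR : Etale (GR R G).hom := by
  change Etale (Spec.map _)
  rw [HasRingHomProperty.Spec_iff (P := @Etale)]
  exact RingHom.etale_algebraMap.2 (inferInstanceAs (Algebra.Etale R (G → R)))

omit [MulSemiringAction G A] [SMulCommClass G R A] in
lemma isAffineHom_GR : IsAffineHom (GR R G).hom := by
  change IsAffineHom (Spec.map _)
  infer_instance

/-- The quotient stack of an affine scheme by a finite group is algebraic. -/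
theorem isAlgStack_quotSt :
    AlgSt.IsAlgStack Scheme.fppfPrecoverage (quotSt R A G Scheme.fppfPrecoverage) := by
  have := etale_GR R G
  have hd := H14Quot.repWith_diag_affine (aX := gaction R A G) le_rfl (isAffineHom_GR R G)
    inferInstance inferInstance (by
      change IsAffineHom (pullback.diagonal (Spec.map _))
      infer_instance)
  exact ⟨H14Quot.isStack_quotSt le_rfl (isAffineHom_GR R G), H14AlgSt.repByAlgSp1_of_with hd,
    X R A, H14Quot.atlas Scheme.fppfPrecoverage (GR R G) (gaction R A G),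
    H14Quot.repWith_atlas_locP @Smooth H12AlgSp.etLocal_smooth le_rfl inferInstance,
    H14Quot.repWith_atlas_surjective le_rfl⟩

end

variable {R : Type u} [CommRing R] {A : Type u} [CommRing A] [Algebra R A]
variable {G : Type u} [Group G] [Fintype G] [DecidableEq G] [MulSemiringAction G A]
  [SMulCommClass G R A]
variable {π : quotSt R A G Scheme.fppfPrecoverage ⥤ᵇ AlgSt.ofSch (specInv R A G)}
  (hπ : BasedFunctor.comp
      (AlgSt.quotMap Scheme.fppfPrecoverage (GR R G) (gaction R A G)) π =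
    AlgSt.ofSpMap ((yon (Spec (CommRingCat.of R))).map (quot R A G)))
variable {𝒵 : AlgSt.Cat (Spec (CommRingCat.of R))} (g : 𝒵 ⥤ᵇ AlgSt.ofSch (specInv R A G))

/-- The morphism to the invariants of an object. -/
def secG (z : 𝒵.obj) : 𝒵.p.obj z ⟶ specInv R A G := (H14Stk.secAt g z).down

include hπ in
lemma obW_eq {z : 𝒵.obj} {x : 𝒵.p.obj z ⟶ X R A} (h : x ≫ quot R A G = secG g z) :
    g.obj z = π.obj (H14Quot.triv Scheme.fppfPrecoverage (GR R G) (gaction R A G) x) := by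
  refine Eq.trans ?_
    (congrArg (fun F => F.obj ((AlgSt.ofOverCat (X R A)).obj (Over.mk x))) hπ).symm
  refine (elt_eq (g.obj z) (g.w_obj z)).trans ?_
  change (⟨_, ULift.up (secG g z)⟩ : Stk.EltObj ((yon _).obj (specInv R A G)).obj) =
    ⟨_, ULift.up (x ≫ quot R A G)⟩
  rw [h]

/-- An object of the base change. -/
def obW (z : 𝒵.obj) (x : 𝒵.p.obj z ⟶ X R A) (h : x ≫ quot R A G = secG g z) :
    (FibCat.fp g π).obj :=
  ⟨{ fst := z
     snd := H14Quot.triv Scheme.fppfPrecoverage (GR R G) (gaction R A G) x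
     iso := eqToIso (obW_eq hπ g h) },
   IsHomLift.of_fac' _ _ _ (g.w_obj z) ((π.w_obj _).trans rfl) (by
    change (eqToHom (obW_eq hπ g h)).hom = _
    rw [eltHom_eqToHom]
    simp)⟩

/-- A section of the torsor over a morphism gives a morphism from a standard object. -/
lemma exists_obWHom (ω : (FibCat.fp g π).obj) {z' : 𝒵.obj} (b : z' ⟶ ω.obj.fst)
    (σ : 𝒵.p.obj z' ⟶ ω.obj.snd.P)
    (hσ : σ ≫ ω.obj.snd.π = 𝒵.p.map b ≫ eqToHom (H14Fib.fp_snd_obj ω).symm)
    (x : 𝒵.p.obj z' ⟶ X R A) (hx : σ ≫ ω.obj.snd.φ = x) (h : x ≫ quot R A G = secG g z') :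
    Nonempty (obW hπ g z' x h ⟶ ω) := by
  let m := H14Quot.homOfSec (A := ω.obj.snd) σ hx
  have hw : g.map b ≫ ω.obj.iso.hom = (eqToIso (obW_eq hπ g h)).hom ≫ π.map m := by
    apply Stk.EltObj.hom_ext
    have h2 : (π.map m).hom = eqToHom (π.w_obj _) ≫ m.base ≫ eqToHom (π.w_obj ω.obj.snd).symm :=
      Functor.congr_hom π.w m
    have h1 : ω.obj.iso.hom.hom = eqToHom (g.w_obj ω.obj.fst) ≫ 𝟙 _ ≫
        eqToHom ((H14Fib.fp_snd_obj ω).symm.trans (π.w_obj ω.obj.snd).symm) :=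
      @IsHomLift.fac' _ _ _ _ _ _ _ _ _ _ _ ω.property
    change (g.map b).hom ≫ ω.obj.iso.hom.hom = (eqToHom (obW_eq hπ g h)).hom ≫ (π.map m).hom
    rw [H14Stk.map_hom_eq g b, h1, h2, eltHom_eqToHom,
      show m.base = σ ≫ ω.obj.snd.π from rfl, hσ]
    simp
  exact ⟨H14Fib.fpHom (x := obW hπ g z' x h) b m hw⟩

include hπ in
/-- The image in the invariants of a section of the torsor. -/
lemma compatW (ω : (FibCat.fp g π).obj) {z' : 𝒵.obj} (b : z' ⟶ ω.obj.fst)
    (σ : 𝒵.p.obj z' ⟶ ω.obj.snd.P)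
    (hσ : σ ≫ ω.obj.snd.π = 𝒵.p.map b ≫ eqToHom (H14Fib.fp_snd_obj ω).symm) :
    (σ ≫ ω.obj.snd.φ) ≫ quot R A G = secG g z' := by
  let Aω := ω.obj.snd
  let m := H14Quot.homOfSec (A := Aω) σ (rfl : σ ≫ Aω.φ = σ ≫ Aω.φ)
  have h1 := H14Stk.secAt_natural π m
  rw [secAt_of_obj_eq π (H14Quot.triv Scheme.fppfPrecoverage (GR R G) (gaction R A G) (σ ≫ Aω.φ))
    (ULift.up ((σ ≫ Aω.φ) ≫ quot R A G))
    (congrArg (fun F => F.obj ((AlgSt.ofOverCat (X R A)).obj (Over.mk (σ ≫ Aω.φ)))) hπ)] at h1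
  have h2 : 𝒵.p.map b ≫ secG g ω.obj.fst = secG g z' :=
    congrArg ULift.down (H14Stk.secAt_natural g b)
  have h4 := ω.obj.iso.hom.map_sec
  rw [show ω.obj.iso.hom.hom = eqToHom (g.w_obj ω.obj.fst) ≫ 𝟙 _ ≫
      eqToHom ((H14Fib.fp_snd_obj ω).symm.trans (π.w_obj ω.obj.snd).symm) from
    @IsHomLift.fac' _ _ _ _ _ _ _ _ _ _ _ ω.property] at h4
  have h5 : (σ ≫ Aω.π) ≫ eqToHom (π.w_obj Aω).symm ≫ (π.obj Aω).sec.down =
      (σ ≫ Aω.φ) ≫ quot R A G := congrArg ULift.down h1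
  have h6 : (eqToHom (g.w_obj ω.obj.fst) ≫ 𝟙 _ ≫
      eqToHom ((H14Fib.fp_snd_obj ω).symm.trans (π.w_obj ω.obj.snd).symm)) ≫
        (π.obj Aω).sec.down = (g.obj ω.obj.fst).sec.down := congrArg ULift.down h4
  rw [← h5, ← h2, hσ]
  change _ = 𝒵.p.map b ≫ eqToHom (g.w_obj ω.obj.fst).symm ≫ (g.obj ω.obj.fst).sec.down
  rw [← h6]
  simp [Aω]

include hπ in
/-- Over an algebraically closed field every object is the image of a standard one. -/
lemma exists_obW_hom (ω : (FibCat.fp g π).obj) {z' : 𝒵.obj} (b : z' ⟶ ω.obj.fst) {L : Type u}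
    [Field L] [IsAlgClosed L] {t : Spec (CommRingCat.of L) ⟶ Spec (CommRingCat.of R)}
    (hz : 𝒵.p.obj z' = Over.mk t) :
    ∃ (x : 𝒵.p.obj z' ⟶ X R A) (h : x ≫ quot R A G = secG g z'),
      Nonempty (obW hπ g z' x h ⟶ ω) := by
  let c : Over.mk t ⟶ ω.obj.snd.base :=
    eqToHom hz.symm ≫ 𝒵.p.map b ≫ eqToHom (H14Fib.fp_snd_obj ω).symm
  obtain ⟨s, hs⟩ := exists_section le_rfl ω.obj.snd c.left
  let σ : 𝒵.p.obj z' ⟶ ω.obj.snd.P := eqToHom hz ≫ Over.homMk s (by
    rw [← Over.w ω.obj.snd.π, ← Category.assoc, hs]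
    exact Over.w c)
  have hσ : σ ≫ ω.obj.snd.π = 𝒵.p.map b ≫ eqToHom (H14Fib.fp_snd_obj ω).symm := by
    change (eqToHom hz ≫ Over.homMk s _) ≫ _ = _
    rw [Category.assoc, show (Over.homMk s _ : Over.mk t ⟶ ω.obj.snd.P) ≫ ω.obj.snd.π = c from
      Over.OverMorphism.ext hs]
    simp [c]
  exact ⟨_, compatW hπ g ω b σ hσ,
    exists_obWHom hπ g ω b σ hσ _ rfl (compatW hπ g ω b σ hσ)⟩

variable [IsNoetherianRing R] [Algebra.FiniteType R A]

include hπ in
/-- Objects with the same image over an algebraically closed field are related. -/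
lemma exists_obW_hom_of_eq {z' : 𝒵.obj} {L : Type u}
    [Field L] [IsAlgClosed L] {t : Spec (CommRingCat.of L) ⟶ Spec (CommRingCat.of R)}
    (hz : 𝒵.p.obj z' = Over.mk t) (x₁ x₂ : 𝒵.p.obj z' ⟶ X R A)
    (h₁ : x₁ ≫ quot R A G = secG g z') (h₂ : x₂ ≫ quot R A G = secG g z') :
    Nonempty (obW hπ g z' x₂ h₂ ⟶ obW hπ g z' x₁ h₁) := by
  obtain ⟨c₀, hc⟩ := exists_act R A G (eqToHom hz.symm ≫ x₁) (eqToHom hz.symm ≫ x₂) (by
    rw [Category.assoc, Category.assoc]
    exact congrArg (_ ≫ ·) (h₁.trans h₂.symm))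
  have hx₂ : x₁ ≫ act R A G c₀ = x₂ := by
    rw [Category.assoc] at hc
    exact (cancel_epi (eqToHom hz.symm)).1 hc
  refine exists_obWHom hπ g (obW hπ g z' x₁ h₁) (𝟙 z')
    (lift (x₁ ≫ γpt R A G c₀ ≫ fst (GR R G) (X R A)) (𝟙 (𝒵.p.obj z'))) ?_ x₂
    ((act_triv c₀ x₁).trans hx₂) h₂
  refine (lift_snd _ _).trans ?_
  rw [CategoryTheory.Functor.map_id]
  exact (Category.id_comp _).symm

variable (hZ : AlgSt.IsAlgStack Scheme.fppfPrecoverage 𝒵)

include hZ in
/-- A lift of a field valued point to an algebraically closed field. -/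
lemma exists_algClosed_hom (r : AlgSt.FPt 𝒵) :
    ∃ (L : Type u) (_ : Field L) (_ : IsAlgClosed L)
      (t : Spec (CommRingCat.of L) ⟶ Spec (CommRingCat.of R)) (z' : 𝒵.obj),
      𝒵.p.obj z' = Over.mk t ∧ Nonempty (z' ⟶ r.obj) := by
  let L := AlgebraicClosure r.K
  let i : Spec (CommRingCat.of L) ⟶ Spec (CommRingCat.of r.K) :=
    Spec.map (CommRingCat.ofHom (algebraMap r.K L))
  have := H14Fib.isFibered_of_fibGrpd hZ.isStack.1
  obtain ⟨z', χ, hχ⟩ := H14Fib.isFibered_exists_sc 𝒵.p r.lies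
    (Over.homMk i rfl : Over.mk (i ≫ r.str) ⟶ Over.mk r.str)
  exact ⟨L, inferInstance, inferInstance, _, z', @IsHomLift.domain_eq _ _ _ _ 𝒵.p _ _ _ _
    (Over.homMk i rfl : Over.mk (i ≫ r.str) ⟶ Over.mk r.str) χ hχ.toIsHomLift, ⟨χ⟩⟩

include hπ hZ in
lemma surjective_fpFst : Function.Surjective (AlgSt.Points.map (FibCat.fpFst g π)) := by
  intro y
  obtain ⟨r, rfl⟩ := AlgSt.Points.mk_surjective y
  obtain ⟨L, _, _, t, z', hz, ⟨d⟩⟩ := exists_algClosed_hom hZ r
  obtain ⟨x, hx⟩ := exists_point R A G (eqToHom hz.symm ≫ secG g z')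
  have h : (eqToHom hz ≫ x) ≫ quot R A G = secG g z' := by
    rw [Category.assoc]
    exact (congrArg (eqToHom hz ≫ ·) hx).trans (by simp)
  exact ⟨AlgSt.Points.mk ⟨L, t, obW hπ g z' (eqToHom hz ≫ x) h, hz⟩,
    H14AlgSt.mk_eq_of_hom (p := ⟨L, t, z', hz⟩) (q := r) d⟩

include hπ hZ in
lemma injective_fpFst : Function.Injective (AlgSt.Points.map (FibCat.fpFst g π)) := by
  intro w₁ w₂ e
  obtain ⟨p₁, rfl⟩ := AlgSt.Points.mk_surjective w₁
  obtain ⟨p₂, rfl⟩ := AlgSt.Points.mk_surjective w₂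
  obtain ⟨r, a₁, a₂, -⟩ := H14AlgSt.rel_of_mk_eq hZ.isStack.1 e
  obtain ⟨L, _, _, t, z', hz, ⟨d⟩⟩ := exists_algClosed_hom hZ r
  obtain ⟨x₁, h₁, ⟨m₁⟩⟩ := exists_obW_hom hπ g p₁.obj (d ≫ a₁) hz
  obtain ⟨x₂, h₂, ⟨m₂⟩⟩ := exists_obW_hom hπ g p₂.obj (d ≫ a₂) hz
  obtain ⟨m⟩ := exists_obW_hom_of_eq hπ g hz x₁ x₂ h₁ h₂
  exact (H14AlgSt.mk_eq_of_hom (p := ⟨L, t, obW hπ g z' x₂ h₂, hz⟩) (q := p₁) (m ≫ m₁)).symm.trans
    (H14AlgSt.mk_eq_of_hom (p := ⟨L, t, obW hπ g z' x₂ h₂, hz⟩) (q := p₂) m₂)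

include hπ hZ in
lemma isClosedMap_fpFst : IsClosedMap (AlgSt.Points.map (FibCat.fpFst g π)) := by
  intro C hC
  have hW : AlgSt.IsAlgStack Scheme.fppfPrecoverage (FibCat.fp g π) :=
    H14AlgSt.isAlgStack_fp' hZ (isAlgStack_quotSt R A G)
      (H14AlgSt.isAlgStack_ofSp ⟨_, AlgSp.IsAlgSpace.yon_obj (specInv R A G)⟩) g π
  obtain ⟨T, z, hz, hzs⟩ := hZ.atlas
  have hopen : IsOpenMap (AlgSt.Points.ofChart z) := H14AlgSt.isOpenMap_ofChart hZ.isStack.1
    (H14AlgSt.repWith_mono (fun _ _ _ h => H12AlgSp.locP_mono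
      (fun _ _ g (_ : Smooth g) => (inferInstance : Flat g)) h) hz)
    (H14AlgSt.repWith_mono (fun _ _ _ h => H12AlgSp.locP_mono
      (fun _ _ g (_ : Smooth g) => (inferInstance : LocallyOfFinitePresentation g)) h) hz)
  rw [← (hopen.isQuotientMap (H14AlgSt.continuous_ofChart hZ z)
    (H14AlgSt.ofChart_surjective hZ.isStack.1 hzs)).isClosed_preimage]
  let zT := z.obj (H14Fib.topObj T)
  have hzT : 𝒵.p.obj zT = T := z.w_obj _
  let τ : T ⟶ specInv R A G := eqToHom hzT.symm ≫ secG g zT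
  let q := (quot R A G).left
  let T' : Over (Spec (CommRingCat.of R)) := Over.mk (pullback.fst τ.left q ≫ T.hom)
  let prT : T' ⟶ T := Over.homMk (pullback.fst τ.left q) rfl
  let prX : T' ⟶ X R A := Over.homMk (pullback.snd τ.left q) (by
    change pullback.snd τ.left q ≫ (specA R A).hom = pullback.fst τ.left q ≫ T.hom
    rw [← Over.w (quot R A G), ← Over.w τ, ← Category.assoc, ← Category.assoc, pullback.condition])
  have hpr : prX ≫ quot R A G = prT ≫ τ := Over.OverMorphism.ext pullback.condition.symm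
  let zT' := z.obj ((AlgSt.overMap prT).obj (H14Fib.topObj T'))
  have hzT' : 𝒵.p.obj zT' = T' := z.w_obj _
  have hτ : secG g zT' = eqToHom hzT' ≫ prT ≫ τ := by
    let n : (AlgSt.overMap prT).obj (H14Fib.topObj T') ⟶ H14Fib.topObj T :=
      H14Fib.toTop _
    have h1 : 𝒵.p.map (z.map n) ≫ secG g zT = secG g zT' :=
      congrArg ULift.down (H14Stk.secAt_natural g (z.map n))
    have h2 : 𝒵.p.map (z.map n) = eqToHom hzT' ≫ n.left ≫ eqToHom hzT.symm :=
      Functor.congr_hom z.w n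
    rw [← h1, h2, show n.left = prT from Category.id_comp _]
    simp [τ]
  have hx : (eqToHom hzT' ≫ prX) ≫ quot R A G = secG g zT' := by
    rw [hτ, Category.assoc]
    exact congrArg (eqToHom hzT' ≫ ·) hpr
  have := H14Fib.isFibered_of_fibGrpd hW.isStack.1
  obtain ⟨k, i, hk, hi⟩ :=
    H14Fib.exists_fromOver (x := obW hπ g zT' (eqToHom hzT' ≫ prX) hx) (U := T') hzT'
  have hg := hZ.isStack.1
  let e : BasedFunctor.comp k (FibCat.fpFst g π) ≅ BasedFunctor.comp (AlgSt.overMap prT) z :=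
    H14Fib.isoOfTop (H14Fib.topSC_of_fibGrpd hg _) (H14Fib.topSC_of_fibGrpd hg _)
      ((FibCat.fpFst g π).toFunctor.mapIso i) (H14Fib.fp_isHomLift_fst (𝟙 T') i.hom)
  have hpk : ∀ s, AlgSt.Points.map (FibCat.fpFst g π) (AlgSt.Points.ofChart k s) =
      AlgSt.Points.ofChart z (prT.left s) := fun s => by
    rw [← H14AlgSt.ofChart_comp, H14AlgSt.ofChart_iso e, H14AlgSt.ofChart_eq_map,
      H14AlgSt.points_map_comp, H14AlgSt.map_eq_ofChart, H14AlgSt.chartPoint_overMap,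
      H14AlgSt.chartPoint_ofChart]
  have : IsFinite q := (isInvQuot_quot R A G).finite
  have : IsAffine (specA R A).left := inferInstanceAs (IsAffine (Spec (CommRingCat.of A)))
  have : IsAffine (specInv R A G).left :=
    inferInstanceAs (IsAffine (Spec (CommRingCat.of ↥(ConstAct.inv R A G))))
  have hqs : Surjective q := by
    have hdom : IsDominant q := isDominant_of_of_appTop_injective (f := q) (isInvQuot_quot R A G).inj
    refine ⟨fun y => ?_⟩
    have h1 : IsClosed (Set.range q) := q.isClosedMap.isClosed_range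
    have h2 := h1.closure_eq ▸ hdom.1.closure_range
    exact (h2 ▸ Set.mem_univ y : y ∈ Set.range q)
  have : IsFinite prT.left := MorphismProperty.pullback_fst _ _ ‹_›
  have : Surjective prT.left := MorphismProperty.pullback_fst _ _ hqs
  have e1 : AlgSt.Points.ofChart z ⁻¹' (AlgSt.Points.map (FibCat.fpFst g π) '' C) =
      prT.left '' (AlgSt.Points.ofChart k ⁻¹' C) := by
    ext s
    constructor
    · rintro ⟨c, hc, e⟩
      obtain ⟨s', rfl⟩ := prT.left.surjective s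
      refine ⟨s', ?_, rfl⟩
      change AlgSt.Points.ofChart k s' ∈ C
      rwa [injective_fpFst hπ g hZ ((hpk s').trans e.symm)]
    · rintro ⟨s', hs', rfl⟩
      exact ⟨_, hs', hpk s'⟩
  rw [e1]
  exact prT.left.isClosedMap _ (hC.preimage (H14AlgSt.continuous_ofChart hW k))

include hπ in
/-- The coarse space map is a universal homeomorphism. -/
theorem isUnivHomeo_quotSt : AlgSt.IsUnivHomeo Scheme.fppfPrecoverage π := by
  intro 𝒲 hW g
  rw [isHomeomorph_iff_continuous_isClosedMap_bijective]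
  exact ⟨H14AlgSt.continuous_points_map hW _, isClosedMap_fpFst hπ g hW,
    injective_fpFst hπ g hW, surjective_fpFst hπ g hW⟩

end Groth.Agent.H14FinQuot
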